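import Cfsg.Agent.R2.T1.N7.Dims
import Cfsg.Agent.S1054

/-!
# S5929, `n = 7`, lift, `p ≥ 7` (helper27)
-/

set_option autoImplicit false
set_option maxRecDepth 100000

namespace Cfsg.Agent.R2.T1.N7

open Equiv Equiv.Perm Module Cfsg Cfsg.Lie
open Cfsg.Agent.H943.E7V.Block (D1)
open Cfsg.Agent.R2.T1.Odd
open Cfsg.Agent.R2.T1.Art
open Cfsg.Agent.H952.F4 (ev MaxAlt)

universe u

theorem l3_cyc : ((P 7 l3 : A7) : Perm (Fin 7)).IsThreeCycle := by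
  rw [coe_P (n := 7) (m := 7) le_rfl (by decide)]
  have h1 : pm 7 l3 = swap (Fin.ofNat 7 1) (Fin.ofNat 7 0) * swap (Fin.ofNat 7 1) (Fin.ofNat 7 2) := by
    unfold l3
    rw [pm_cons, pm_cons, pm_nil, mul_one, swap_comm (Fin.ofNat 7 0)]
  rw [h1]
  exact isThreeCycle_swap_mul_swap_same (by decide) (by decide) (by decide)

section
variable {F : Type u} [Field F] {ψ : A7 →* Gh F}

theorem psi_ne7 (hψ : ∀ a, ad F (ψ a) = 1 → a = 1) {l : List (ℕ × ℕ)} (h : vl 7 l = true) (hc : cd 7 l ≠ cd 7 []) :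
    ad F (ψ (P 7 l)) ≠ 1 := by
  intro h1
  exact P_ne (n := 7) (m := 7) le_rfl h rfl hc (by rw [hψ _ h1, P_nil])

theorem psi_ne7' (hψ : ∀ a, ad F (ψ a) = 1 → a = 1) {l : List (ℕ × ℕ)} (h : vl 7 l = true) (hc : cd 7 l ≠ cd 7 []) :
    ψ (P 7 l) ≠ 1 := fun h1 => psi_ne7 hψ h hc (by rw [h1, map_one])

variable [Finite F] (h2 : (2 : F) ≠ 0) (h3 : (3 : F) ≠ 0) (h5 : (5 : F) ≠ 0) (hψ : ∀ a, ad F (ψ a) = 1 → a = 1)

include h2 hψ in
theorem case_t : ev (V F (ψ (P 7 lt))) 1 = 32 ∨ ev (V F (ψ (P 7 lt))) 1 = 24 :=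
  (two h2 (by rw [← map_mul, ← pow_two, P_pow_one (n := 7) (m := 7) le_rfl (by decide) (by decide), map_one])
    (psi_ne7 hψ (by decide) (by decide))).1

include h3 hψ in
theorem case_3 {l : List (ℕ × ℕ)} (h : vl 7 l = true) (hc : cd 7 l ≠ cd 7 []) (hp : cd 7 (pwl l 3) = cd 7 []) :
    ev (V F (ψ (P 7 l))) 1 = 2 ∨ ev (V F (ψ (P 7 l))) 1 = 32 ∨ ev (V F (ψ (P 7 l))) 1 = 20 ∨
      ev (V F (ψ (P 7 l))) 1 = 14 := by
  have h1 := three h3 (x := ψ (P 7 l)) (by rw [← map_pow, P_pow_one (n := 7) (m := 7) le_rfl h hp, map_one])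
    (psi_ne7' hψ h hc)
  omega

include h5 hψ in
theorem case_5 : ev (V F (ψ (P 7 l5))) 1 = 16 := by
  have h1 : P 7 l5 ^ 5 = 1 := P_pow_one (n := 7) (m := 7) le_rfl (by decide) (by decide)
  have h3 : P 7 [(1, 2), (2, 4), (4, 3), (5, 6)] * P 7 l5 * (P 7 [(1, 2), (2, 4), (4, 3), (5, 6)])⁻¹ = P 7 l5 ^ 2 := by
    rw [mul_inv_eq_iff_eq_mul, ← P_pwl (n := 7) (m := 7) le_rfl (by decide),
      ← P_append (n := 7) (m := 7) le_rfl (by decide) (by decide),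
      ← P_append (n := 7) (m := 7) le_rfl (by decide) (by decide), P_eq_iff (n := 7) (m := 7) le_rfl (by decide) (by decide)]
    decide
  refine five_rat h5 (x := ψ (P 7 l5)) (g := ψ (P 7 [(1, 2), (2, 4), (4, 3), (5, 6)])) ?_
    (psi_ne7' hψ (by decide) (by decide)) ?_
  · rw [← map_pow, h1, map_one]
  · rw [← map_inv, ← map_mul, ← map_mul, h3, map_pow]

include h2 h3 h5 hψ in
/-- **the 3-cycles have 32 eigenvalues 1** -/
theorem d3_eq (h0 : Representation.invariants (MonoidHom.comp (V F) ψ) = ⊥) : ev (V F (ψ (P 7 l3))) 1 = 32 := by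
  set ρ : Representation F A7 (D1 → F) := MonoidHom.comp (V F) ψ with hρ
  have e0 : om ρ 1 = 56 := by rw [om_one, finrank_V]; norm_num
  have hW : (finrank F (D1 → F) : ℚ) = 56 := by rw [finrank_V]; norm_num
  have et := om_t ρ
  have e3 := om_3 ρ
  have e33 := om_33 ρ
  have e5 := om_5 ρ
  have e42 := om_42 ρ
  have f5 : ev (ρ (P 7 l5)) 1 = 16 := case_5 h5 hψ
  rw [hW] at et e3 e33 e5
  rw [f5] at e5
  have h4 : 4 ∣ ev (ρ (P 7 l42)) 1 := four_dvd h2 (x := ψ (P 7 l42))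
    (by rw [← map_pow, P_pow_one (n := 7) (m := 7) le_rfl (by decide) (by decide), map_one])
  have ht : ev (ρ (P 7 lt)) 1 = 32 ∨ ev (ρ (P 7 lt)) 1 = 24 := case_t h2 hψ
  have h33 := case_3 (ψ := ψ) h3 hψ (l := l33) (by decide) (by decide) (by decide)
  have h3' := case_3 (ψ := ψ) h3 hψ (l := l3) (by decide) (by decide) (by decide)
  have dA4 := dimA4 ρ h2 h3
  have dB5 := dimB5 ρ h2 h3 h5
  have dE4 := dimE4 ρ h2 h3
  have dA6 := dimA6 ρ h2 h3 h5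
  rw [e0, et, e3] at dA4
  rw [e0, et, e33, e5] at dB5
  rw [e0, et, e42, e3, e33] at dE4
  rw [e0, et, e42, e3, e33, e5] at dA6
  have m1 : finrank F ↥(inv ρ (Tg 7 gA6)) ≤ finrank F ↥(inv ρ (Tg 7 gE4)) :=
    Submodule.finrank_mono (inv_mono (le_A6 (by decide)))
  have m2 := three_u h0
  change ev (ρ (P 7 l3)) 1 = 32
  change ev (ρ (P 7 l33)) 1 = 2 ∨ ev (ρ (P 7 l33)) 1 = 32 ∨ ev (ρ (P 7 l33)) 1 = 20 ∨ ev (ρ (P 7 l33)) 1 = 14 at h33
  change ev (ρ (P 7 l3)) 1 = 2 ∨ ev (ρ (P 7 l3)) 1 = 32 ∨ ev (ρ (P 7 l3)) 1 = 20 ∨ ev (ρ (P 7 l3)) 1 = 14 at h3'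
  generalize ev (ρ (P 7 l3)) 1 = x3 at *
  generalize ev (ρ (P 7 l33)) 1 = x33 at *
  generalize ev (ρ (P 7 lt)) 1 = xt at *
  generalize ev (ρ (P 7 l42)) 1 = x4 at *
  generalize finrank F ↥(inv ρ (Tg 7 gA4)) = a4 at *
  generalize finrank F ↥(inv ρ (Tg 7 gB5)) = b5 at *
  generalize finrank F ↥(inv ρ (Tg 7 gE4)) = s4 at *
  generalize finrank F ↥(inv ρ (Tg 7 gA6)) = a6 at *
  obtain ⟨y, rfl⟩ := h4
  have d1 : (12 * a4 : ℤ) = 56 + 3 * (2 * xt - 56) + 4 * (3 * x3 - 56) := by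
    have : (12 * a4 : ℚ) = 56 + 3 * (2 * xt - 56) + 4 * (3 * x3 - 56) := by linarith
    exact_mod_cast this
  have d2 : (60 * b5 : ℤ) = 56 + 15 * (2 * xt - 56) + 10 * (3 * x33 - 56) + 144 := by
    have : (60 * b5 : ℚ) = 56 + 15 * (2 * xt - 56) + 10 * (3 * x33 - 56) + 144 := by push_cast at dB5 ⊢; linarith
    exact_mod_cast this
  have d3 : (36 * s4 : ℤ) = 56 + 9 * (2 * xt - 56) + 18 * (8 * y - xt) + 2 * (3 * x3 - 56) + 2 * (3 * x33 - 56) := by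
    have : (36 * s4 : ℚ) = 56 + 9 * (2 * xt - 56) + 18 * (8 * y - xt) + 2 * (3 * x3 - 56) + 2 * (3 * x33 - 56) := by
      push_cast at dE4 ⊢; linarith
    exact_mod_cast this
  have d4 : (360 * a6 : ℤ) = 56 + 45 * (2 * xt - 56) + 90 * (8 * y - xt) + 20 * (3 * x3 - 56) + 20 * (3 * x33 - 56) +
      864 := by
    have : (360 * a6 : ℚ) = 56 + 45 * (2 * xt - 56) + 90 * (8 * y - xt) + 20 * (3 * x3 - 56) + 20 * (3 * x33 - 56) +
        864 := by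
      push_cast at dA6 ⊢; linarith
    exact_mod_cast this
  omega

include h2 h3 h5 hψ in
/-- the submodule generated by a vector fixed by `A5` -/
theorem red7 (hd : ev (V F (ψ (P 7 l3))) 1 = 32) : ∃ W : Submodule F (D1 → F), PsSt ψ W ∧ W ≠ ⊥ ∧ W ≠ ⊤ := by
  set ρ : Representation F A7 (D1 → F) := MonoidHom.comp (V F) ψ with hρ
  have e0 : om ρ 1 = 56 := by rw [om_one, finrank_V]; norm_num
  have hW : (finrank F (D1 → F) : ℚ) = 56 := by rw [finrank_V]; norm_num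
  have et := om_t ρ
  have e3 := om_3 ρ
  have e5 := om_5 ρ
  have f5 : ev (ρ (P 7 l5)) 1 = 16 := case_5 h5 hψ
  have f3 : ev (ρ (P 7 l3)) 1 = 32 := hd
  have ht : ev (ρ (P 7 lt)) 1 = 32 ∨ ev (ρ (P 7 lt)) 1 = 24 := case_t h2 hψ
  rw [hW] at et e3 e5
  rw [f5] at e5
  rw [f3] at e3
  have dA5 := dimA5 ρ h2 h3 h5
  rw [e0, et, e3, e5] at dA5
  have hpos : 0 < finrank F ↥(inv ρ (Tg 7 gA5)) := by
    generalize finrank F ↥(inv ρ (Tg 7 gA5)) = a5 at *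
    by_contra h
    have h0 : a5 = 0 := by omega
    subst h0
    rcases ht with h | h <;> rw [h] at dA5 <;> norm_num at dA5
  have := Module.finrank_pos_iff.1 hpos
  obtain ⟨⟨w, hw⟩, hw0⟩ := exists_ne (0 : ↥(inv ρ (Tg 7 gA5)))
  have hw1 : w ≠ 0 := fun h => hw0 (Subtype.ext h)
  refine ⟨Submodule.span F (Set.range fun g => ρ g w), ?_, ?_, ?_⟩
  · intro a x hx
    exact orbit_stable ρ w a hx
  · intro h
    have h1 : w ∈ Submodule.span F (Set.range fun g => ρ g w) :=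
      Submodule.subset_span ⟨1, by show ρ 1 w = w; rw [map_one]; rfl⟩
    rw [h] at h1
    exact hw1 ((Submodule.mem_bot F).1 h1)
  · intro h
    have h1 := orbit_le ρ (Tg 7 gA5) hw
    rw [h, finrank_top, finrank_V] at h1
    have h2 := (Tg 7 gA5).card_mul_index
    rw [natcard_Tg chkG_A5, len_A5, card_A7] at h2
    omega

end

/-- **`n = 7`, lift, `p ≥ 7`** -/
theorem big {F : Type u} [Field F] [Finite F] {H : Subgroup ↥(chevE7.group F)}
    {φ : ↥(alternatingGroup (Fin 7)) →* ↥(chevE7.group F)} {ψ : ↥(alternatingGroup (Fin 7)) →* Gh F}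
    (hM : MaxAlt H 7 φ) (hL : Lift φ ψ) (h2 : (2 : F) ≠ 0) (h3 : (3 : F) ≠ 0) (h5 : (5 : F) ≠ 0) : False := by
  have := Fintype.ofFinite F
  have hs : IsSimpleGroup ↥(chevE7.group F) := (S1054.result chevE7 (by simp)).1
  have hψ := lift_inj' hM hL
  have h0 := no_fixed hM (by norm_num) (by norm_num) hL
  have hd := d3_eq h2 h3 h5 hψ h0
  obtain ⟨W, hW, hb, ht⟩ := red7 h2 h3 h5 hψ hd
  obtain ⟨q2, q4⟩ := card_ne h2
  exact no_red32 hs h3 q2 q4 le_rfl hM hL l3_cyc hW hb ht hd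

/-- **`n = 7`, lift, `p = 7`** -/
theorem sev7 {F : Type u} [Field F] [Finite F] {H : Subgroup ↥(chevE7.group F)}
    {φ : ↥(alternatingGroup (Fin 7)) →* ↥(chevE7.group F)} {ψ : ↥(alternatingGroup (Fin 7)) →* Gh F}
    (hM : MaxAlt H 7 φ) (hL : Lift φ ψ) (h7 : (7 : F) = 0) : False := by
  refine big hM hL ?_ ?_ ?_
  · intro h
    have : (1 : F) = 7 - 3 * 2 := by norm_num
    rw [h7, h] at this
    simp at this
  · intro h
    have : (1 : F) = 7 - 2 * 3 := by norm_num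
    rw [h7, h] at this
    simp at this
  · intro h
    have : (1 : F) = 3 * 5 - 2 * 7 := by norm_num
    rw [h7, h] at this
    simp at this

/-- **`n = 7`, lift, `p ≥ 11`** -/
theorem sev11 {F : Type u} [Field F] [Finite F] {H : Subgroup ↥(chevE7.group F)}
    {φ : ↥(alternatingGroup (Fin 7)) →* ↥(chevE7.group F)} {ψ : ↥(alternatingGroup (Fin 7)) →* Gh F}
    (hM : MaxAlt H 7 φ) (hL : Lift φ ψ) (h2 : (2 : F) ≠ 0) (h3 : (3 : F) ≠ 0) (h5 : (5 : F) ≠ 0)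
    (_h7 : (7 : F) ≠ 0) : False := big hM hL h2 h3 h5

end Cfsg.Agent.R2.T1.N7
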