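import Cfsg.Agent.R2.T1.N7.Grp
import Cfsg.Agent.R2.T1.Pat2.A5

/-!
# S5929, `n = 7`, `p = 2`: `dim M^{Z₅} + 2 dim M^{A₆} ≤ dim M^{Z₃}` (helper27)
-/

set_option autoImplicit false
set_option maxRecDepth 100000

namespace Cfsg.Agent.R2.T1.N7

open Equiv Equiv.Perm Module
open Cfsg.Agent.R2.T1.Odd
open Cfsg.Agent.R2.T1.Pat2 (pw ml evn Sg Sg_append Sg_ml Sg_even Sg_pw add_self2 eq_of_add2 w5 w3)
open Cfsg.Agent.H952.F4 (ev es)

universe u v

theorem cA : w5.length = 4 ∧ vl 7 w5 = true ∧ vl 7 w3 = true ∧ (pw 5 w5).all (vl 7) = true ∧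
    (pw 3 w3).all (vl 7) = true := by decide

theorem cB : evn 7 (ml (pw 5 w5) (ml (pw 3 w3) (pw 5 w5)) ++ pw 5 w5) = true := by decide +kernel

theorem cC : evn 7 (ml [w3] (pw 3 w3) ++ pw 3 w3) = true := by decide +kernel

theorem cD : evn 7 (ml (pw 5 w5) [w5] ++ pw 5 w5) = true := by decide +kernel

section mod
variable {F : Type u} [Field F] {W : Type v} [AddCommGroup W] [Module F W] {ρ : Representation F A7 W}

/-- elements which map `6` to a given point -/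
noncomputable def sg (i : Fin 7) : A7 := (trans1 6 i).choose

theorem sg_6 (i : Fin 7) : (sg i : Perm (Fin 7)) 6 = i := (trans1 6 i).choose_spec

theorem sg_ap {a : W} (ha : a ∈ inv ρ (Tg 7 gA6)) (g : A7) (i : Fin 7) :
    ρ g (ρ (sg i) a) = ρ (sg ((g : Perm (Fin 7)) i)) a := by
  rw [← Module.End.mul_apply, ← map_mul]
  exact mv ha (by rw [mul_ap, sg_6, sg_6])

theorem sg_zero (h0 : Representation.invariants ρ = ⊥) {a : W} (ha : a ∈ inv ρ (Tg 7 gA6)) {i j : Fin 7}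
    (hij : i ≠ j) (h : ρ (sg i) a = ρ (sg j) a) : a = 0 :=
  zero_of h0 ha (by rw [sg_6, sg_6]; exact hij) h

theorem self2 (h2 : (2 : F) = 0) (x : W) : x + x = 0 := by rw [← two_smul F x, h2, zero_smul]

theorem Sg_one (ρ : Representation F A7 W) (b : List (ℕ × ℕ)) : Sg ρ [b] = ρ (P 7 b) := by
  unfold Sg
  rw [List.map_cons, List.map_nil, List.sum_cons, List.sum_nil, add_zero]

theorem all_ml {A B : List (List (ℕ × ℕ))} (hA : A.all (vl 7) = true) (hB : B.all (vl 7) = true) :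
    (ml A B).all (vl 7) = true := by
  rw [List.all_eq_true] at *
  intro x hx
  obtain ⟨u, hu, hx⟩ := List.mem_flatMap.1 hx
  obtain ⟨v, hv, rfl⟩ := List.mem_map.1 hx
  exact vl_append (hA u hu) (hB v hv)

/-- the sum over the powers of the 5-cycle, of the 3-cycle -/
noncomputable def S5 (ρ : Representation F A7 W) : End F W := Sg ρ (pw 5 w5)
noncomputable def S3 (ρ : Representation F A7 W) : End F W := Sg ρ (pw 3 w3)

theorem S535 (h2 : (2 : F) = 0) : S5 ρ * (S3 ρ * S5 ρ) = S5 ρ := by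
  have h5 := Sg_even h2 le_rfl ρ cB
  rw [Sg_append, Sg_ml le_rfl ρ cA.2.2.2.1 (all_ml cA.2.2.2.2 cA.2.2.2.1), Sg_ml le_rfl ρ cA.2.2.2.2 cA.2.2.2.1] at h5
  exact eq_of_add2 h2 h5

theorem S3_fix (h2 : (2 : F) = 0) : ρ (P 7 w3) * S3 ρ = S3 ρ := by
  have h5 := Sg_even h2 le_rfl ρ cC
  rw [Sg_append, Sg_ml le_rfl ρ (by simp [cA.2.2.1]) cA.2.2.2.2, Sg_one] at h5
  exact eq_of_add2 h2 h5

theorem S5_fix (h2 : (2 : F) = 0) : S5 ρ * ρ (P 7 w5) = S5 ρ := by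
  have h5 := Sg_even h2 le_rfl ρ cD
  rw [Sg_append, Sg_ml le_rfl ρ cA.2.2.2.1 (by simp [cA.2.1]), Sg_one] at h5
  exact eq_of_add2 h2 h5

theorem P_val {l : List (ℕ × ℕ)} (hl : vl 7 l = true) {i j : Fin 7} (h : ap l i.val = j.val) :
    ((P 7 l : A7) : Perm (Fin 7)) i = j := Fin.ext (by rw [P_ap hl, h])

theorem S5_sg (h2 : (2 : F) = 0) {a : W} (ha : a ∈ inv ρ (Tg 7 gA6)) {i j : Fin 7} (h : ap w5 i.val = j.val) :
    S5 ρ (ρ (sg j) a) = S5 ρ (ρ (sg i) a) := by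
  rw [← P_val cA.2.1 h, ← sg_ap ha, ← Module.End.mul_apply, S5_fix h2]

/-- the map `(v, u, u') ↦ e₃ v + v₃(u) + v₄(u) + v₀(u') + v₁(u') + v₂(u') + v₃(u')` -/
noncomputable def inj (ρ : Representation F A7 W) :
    (↥(Module.End.eigenspace (ρ (P 7 w5)) 1) × ↥(inv ρ (Tg 7 gA6))) × ↥(inv ρ (Tg 7 gA6)) →ₗ[F] W :=
  (((S3 ρ).comp (Module.End.eigenspace (ρ (P 7 w5)) 1).subtype).coprod
    ((ρ (sg 3) + ρ (sg 4)).comp (inv ρ (Tg 7 gA6)).subtype)).coprod
    ((ρ (sg 0) + ρ (sg 1) + ρ (sg 2) + ρ (sg 3)).comp (inv ρ (Tg 7 gA6)).subtype)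

theorem inj_apply (v : ↥(Module.End.eigenspace (ρ (P 7 w5)) 1)) (a b : ↥(inv ρ (Tg 7 gA6))) :
    inj ρ ((v, a), b) = S3 ρ v + (ρ (sg 3) a + ρ (sg 4) a) + (ρ (sg 0) b + ρ (sg 1) b + ρ (sg 2) b + ρ (sg 3) b) := rfl

/-- an element with `0 ↦ 5` which fixes `1, 2, 3, 4` -/
def g05 : List (ℕ × ℕ) := [(0, 5), (5, 6)]

theorem inj_inj (h2 : (2 : F) = 0) (h0 : Representation.invariants ρ = ⊥) : Function.Injective (inj ρ) := by
  rw [← LinearMap.ker_eq_bot, LinearMap.ker_eq_bot']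
  rintro ⟨⟨v, a⟩, b⟩ h
  rw [inj_apply] at h
  have hv : ρ (P 7 w5) (v : W) = v := by
    have h3 := Module.End.mem_eigenspace_iff.1 v.2
    rwa [one_smul] at h3
  have hv5 : S5 ρ (v : W) = v := Sg_pw h2 le_rfl ρ (by decide) cA.2.1 hv
  have h1 := congrArg (S5 ρ) h
  have e34 : S5 ρ (ρ (sg 4) a.1) = S5 ρ (ρ (sg 3) a.1) := S5_sg h2 a.2 (by decide)
  have e01 : S5 ρ (ρ (sg 1) b.1) = S5 ρ (ρ (sg 0) b.1) := S5_sg h2 b.2 (by decide)
  have e12 : S5 ρ (ρ (sg 2) b.1) = S5 ρ (ρ (sg 1) b.1) := S5_sg h2 b.2 (by decide)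
  have e23 : S5 ρ (ρ (sg 3) b.1) = S5 ρ (ρ (sg 2) b.1) := S5_sg h2 b.2 (by decide)
  have e535 : S5 ρ (S3 ρ (v : W)) = v := by
    have h3 := congrArg (fun T : End F W => T (v : W)) (S535 (ρ := ρ) h2)
    have h4 : S5 ρ (S3 ρ (S5 ρ (v : W))) = S5 ρ (v : W) := h3
    rw [hv5] at h4
    exact h4
  rw [map_add, map_add, map_add, map_add, map_add, map_add, map_zero, e34, e23, e12, e01, e535, self2 h2,
    add_assoc, add_assoc, self2 h2, ← add_assoc] at h1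
  have h3 : (v : W) = 0 := by simpa using h1
  rw [h3, map_zero, zero_add] at h
  have hg : vl 7 g05 = true := by decide
  have h5 := congrArg (ρ (P 7 g05)) h
  rw [map_zero, map_add, map_add, map_add, map_add, map_add, sg_ap a.2, sg_ap a.2, sg_ap b.2, sg_ap b.2, sg_ap b.2,
    sg_ap b.2, P_val hg (i := 3) (j := 3) (by decide), P_val hg (i := 4) (j := 4) (by decide),
    P_val hg (i := 0) (j := 5) (by decide), P_val hg (i := 1) (j := 1) (by decide),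
    P_val hg (i := 2) (j := 2) (by decide), ← h] at h5
  have h6 := add_right_cancel (add_right_cancel (add_right_cancel (add_left_cancel h5)))
  have hb : b.1 = 0 := sg_zero h0 b.2 (by decide) h6
  rw [hb, map_zero, map_zero, map_zero, map_zero, add_zero, add_zero, add_zero, add_zero] at h
  have h7 : ρ (sg 3) a.1 = ρ (sg 4) a.1 := by
    have h8 := self2 h2 (ρ (sg 4) a.1)
    rw [← h8] at h
    exact add_right_cancel h
  have ha : a.1 = 0 := sg_zero h0 a.2 (by decide) h7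
  have hv' : v = 0 := Subtype.ext h3
  have ha' : a = 0 := Subtype.ext ha
  have hb' : b = 0 := Subtype.ext hb
  rw [hv', ha', hb']
  rfl

/-- **`dim M^{Z₅} + 2 dim M^{A₆} ≤ dim M^{Z₃}`** -/
theorem five_two_le [FiniteDimensional F W] (h2 : (2 : F) = 0) (h0 : Representation.invariants ρ = ⊥) :
    ev (ρ (P 7 w5)) 1 + 2 * finrank F ↥(inv ρ (Tg 7 gA6)) ≤ ev (ρ (P 7 w3)) 1 := by
  have h1 : ∀ x, inj ρ x ∈ Module.End.eigenspace (ρ (P 7 w3)) 1 := by
    rintro ⟨⟨v, a⟩, b⟩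
    rw [inj_apply, Module.End.mem_eigenspace_iff, one_smul]
    have e3 : ρ (P 7 w3) (S3 ρ (v : W)) = S3 ρ (v : W) := congrArg (fun T : End F W => T (v : W)) (S3_fix (ρ := ρ) h2)
    rw [map_add, map_add, map_add, map_add, map_add, map_add, e3, sg_ap a.2, sg_ap a.2, sg_ap b.2, sg_ap b.2,
      sg_ap b.2, sg_ap b.2, P_val cA.2.2.1 (i := 3) (j := 3) (by decide), P_val cA.2.2.1 (i := 4) (j := 4) (by decide),
      P_val cA.2.2.1 (i := 0) (j := 1) (by decide), P_val cA.2.2.1 (i := 1) (j := 2) (by decide),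
      P_val cA.2.2.1 (i := 2) (j := 0) (by decide)]
    congr 1
    abel
  have h3 := LinearMap.finrank_le_finrank_of_injective (f := (inj ρ).codRestrict _ h1)
    (fun x y h => inj_inj h2 h0 (congrArg Subtype.val h))
  rw [Module.finrank_prod, Module.finrank_prod] at h3
  unfold ev
  have h4 : finrank F ↥(Module.End.eigenspace (ρ (P 7 w5)) 1) + 2 * finrank F ↥(inv ρ (Tg 7 gA6)) ≤
      finrank F ↥(Module.End.eigenspace (ρ (P 7 w3)) 1) := by omega
  exact h4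

end mod

end Cfsg.Agent.R2.T1.N7
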