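import Cfsg.Agent.R2.T1.N7.PB.Cls
import Cfsg.Agent.R2.T1.Inf.LCnt
import Cfsg.Agent.R2.T1.Inf.Form
import Cfsg.Agent.R2.T1.Five.Lin

/-!
# S5929, `n = 7`, `p = 3`, lift: pattern B is impossible (helper7)
-/

set_option autoImplicit false

namespace Cfsg.Agent.R2.T1.N7

open Cfsg Cfsg.Lie Module
open Cfsg.Agent.H943.E7V.Block (D1 rho)
open Cfsg.Agent.H952.F4 (ev es MaxAlt)
open Cfsg.Agent.R2.T1

universe u

variable {F : Type u} [Field F] {H : Subgroup ↥(chevE7.group F)}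
  {φ : ↥(alternatingGroup (Fin 7)) →* ↥(chevE7.group F)} {ψ : ↥(alternatingGroup (Fin 7)) →* Gh F}

/-- **pattern B** -/
theorem patB [Finite F] (hM : MaxAlt H 7 φ) (hL : Lift φ ψ) (h3 : (3 : F) = 0)
    {t y x : ↥(alternatingGroup (Fin 7))} (ht : orderOf t = 2) (hy : orderOf y = 7) (hx : orderOf x = 5)
    (h2 : ev (V F (ψ t)) 1 = 32) (h7 : ev (V F (ψ y)) 1 = 8) (h5 : ev (V F (ψ x)) 1 = 16) : False := by
  have hprime : Fact (Nat.Prime 3) := ⟨Nat.prime_three⟩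
  have hchar : CharP F 3 := by
    obtain ⟨p, hp⟩ := CharP.exists F
    have h1 : p ∣ 3 := (CharP.cast_eq_zero_iff F p 3).1 (by exact_mod_cast h3)
    have h4 : p = 3 := ((Nat.dvd_prime Nat.prime_three).1 h1).resolve_left (CharP.char_ne_one F p)
    rwa [← h4]
  let ρ : Representation F ↥(alternatingGroup (Fin 7)) (D1 → F) := MonoidHom.comp (V F) ψ
  have h0 : Representation.invariants ρ = ⊥ := no_fixed hM (by norm_num) (by norm_num) hL
  have hB : ∀ v : D1 → F, (∀ w, sf F v w = 0) → v = 0 := fun v hv => sf_nondeg' hv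
  have hG : ∀ g v w, sf F (ρ g v) (ρ g w) = sf F v w := fun g v w => sf_V _ v w
  have e2 : ev (ρ PB.s2) 1 = 32 := by rw [← PB.ev_isConj ρ (PB.cls2 ht)]; exact h2
  have e5 : ev (ρ PB.a7) 1 = 16 := by rw [← PB.ev_isConj ρ (PB.cls5 hx)]; exact h5
  have e7 : ev (ρ (PB.s2 * PB.s3)) 1 = 8 := by
    rcases PB.cls7 hy with h | h
    · rw [← PB.ev_isConj ρ h]; exact h7
    · rw [← PB.ev_inv, ← PB.ev_isConj ρ h]; exact h7
  have e3 : 19 ≤ ev (ρ PB.s3) 1 := by
    have h := Five.ev_ge (p := 3) (T := ρ PB.s3) (by rw [← map_pow, PB.s3_pow, map_one])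
    rw [finrank_V] at h
    omega
  have h6 := PB.fx_ge ρ hB hG
  rw [finrank_V, e2, e7] at h6
  have h8 := PB.final h3 h0 hB hG (by omega)
  rw [finrank_V, e5] at h8
  omega

end Cfsg.Agent.R2.T1.N7
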