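import Cfsg.Agent.R2.T1.Odd.Typ

/-!
# S5929, `n = 7`: tables of subgroups of `A_7` (helper27)
-/

set_option autoImplicit false
set_option maxRecDepth 100000

namespace Cfsg.Agent.R2.T1.N7

open Cfsg.Agent.R2.T1.Odd

/-- representatives of the classes: `1`, `2²`, `42`, `3`, `33`, `5` -/
def r7 : List (List (ℕ × ℕ)) :=
  [[], [(0, 1), (2, 3)], [(0, 1), (1, 2), (2, 3), (4, 5)], [(0, 1), (1, 2)], [(0, 1), (1, 2), (4, 5), (5, 6)],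
   [(0, 1), (1, 2), (2, 3), (3, 4)]]

/-- `A_4` on `{0,1,2,3}` -/
def gA4 : List (List (ℕ × ℕ)) :=
[[(0, 1), (2, 3)], [(0, 1), (1, 2)]]

def eA4 : List (List ℕ) :=
[[], [0], [1], [1, 0], [0, 1], [1, 1], [0, 1, 0], [1, 1, 0], [1, 0, 1], [0, 1, 1], [1, 1, 0, 1], [1, 0, 1, 1]]

def dA4 : List (ℕ × List (ℕ × ℕ)) :=
[(0, []), (1, []), (3, []), (3, [(1, 2), (2, 3)]), (3, [(0, 1), (1, 3)]), (3, [(1, 2), (5, 6)]), (3, [(1, 3), (3,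
   2)]), (3, [(0, 3), (5, 6)]), (3, [(2, 3), (5, 6)]), (3, [(1, 3), (5, 6)]), (1, [(1, 2), (5, 6)]), (1, [(1, 3),
   (3, 2)])]

/-- `A_5` on `{0,..,4}` -/
def gA5 : List (List (ℕ × ℕ)) :=
[[(0, 1), (1, 2)], [(2, 3), (3, 4)], [(0, 1), (1, 2), (2, 3), (3, 4)]]

def eA5 : List (List ℕ) :=
[[], [0], [1], [2], [0, 0], [1, 0], [2, 0], [1, 1], [2, 1], [0, 2], [1, 2], [2, 2], [1, 0, 0], [2, 0, 0], [1, 1, 0],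
   [2, 1, 0], [0, 2, 0], [1, 2, 0], [2, 2, 0], [0, 2, 1], [1, 2, 1], [2, 2, 1], [1, 0, 2], [2, 0, 2], [1, 1, 2], [2,
   1, 2], [0, 2, 2], [2, 2, 2], [1, 1, 0, 0], [2, 1, 0, 0], [0, 2, 0, 0], [1, 2, 0, 0], [2, 2, 0, 0], [0, 2, 1, 0],
   [1, 2, 1, 0], [2, 2, 1, 0], [1, 0, 2, 0], [2, 0, 2, 0], [1, 1, 2, 0], [2, 1, 2, 0], [2, 2, 2, 0], [2, 0, 2, 1],
   [2, 1, 2, 1], [0, 2, 2, 1], [2, 1, 0, 2], [0, 2, 0, 2], [2, 2, 0, 2], [0, 2, 1, 2], [1, 2, 1, 0, 0], [2, 2, 1, 0,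
   0], [1, 0, 2, 0, 0], [2, 0, 2, 0, 0], [1, 1, 2, 0, 0], [2, 1, 2, 0, 0], [2, 0, 2, 1, 0], [2, 1, 2, 1, 0], [2, 1,
   0, 2, 0], [1, 2, 1, 0, 2], [2, 2, 1, 0, 2], [2, 0, 2, 1, 2]]

def dA5 : List (ℕ × List (ℕ × ℕ)) :=
[(0, []), (3, []), (3, [(0, 3), (1, 4)]), (5, []), (3, [(1, 2), (5, 6)]), (5, [(2, 3), (3, 4)]), (5, [(1, 2), (5,
   6)]), (3, [(0, 4), (1, 3)]), (5, [(3, 4), (5, 6)]), (5, [(0, 1), (5, 6)]), (5, [(2, 3), (5, 6)]), (5, [(1, 2),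
   (2, 4), (4, 3), (5, 6)]), (5, [(0, 2), (5, 6)]), (3, [(1, 3), (2, 4)]), (5, [(2, 4), (5, 6)]), (5, [(1, 2), (3,
   4)]), (3, [(0, 4), (2, 3)]), (5, [(1, 3), (5, 6)]), (1, [(1, 3), (2, 4)]), (5, [(1, 2), (2, 4)]), (3, [(2, 3),
   (5, 6)]), (1, [(1, 2), (5, 6)]), (5, [(1, 3), (3, 4)]), (1, [(1, 3), (3, 4)]), (3, [(2, 4), (4, 3)]), (1, [(1,
   2), (3, 4)]), (1, [(0, 3), (3, 4)]), (5, [(1, 3), (3, 4), (4, 2), (5, 6)]), (5, [(1, 4), (2, 3)]), (3, [(1, 4),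
   (2, 3)]), (5, [(1, 3), (2, 4)]), (1, [(1, 4), (5, 6)]), (5, [(0, 4), (5, 6)]), (3, [(0, 3), (2, 4)]), (1, [(1,
   3), (3, 2)]), (3, [(1, 3), (3, 2)]), (1, [(0, 1), (1, 4)]), (5, [(2, 4), (4, 3)]), (1, [(1, 4), (4, 3)]), (3,
   [(1, 4), (4, 2)]), (5, [(1, 4), (5, 6)]), (3, [(1, 3), (5, 6)]), (5, [(1, 2), (2, 3)]), (3, [(0, 1), (1, 3)]),
   (3, [(1, 4), (4, 3)]), (5, [(1, 3), (3, 2)]), (5, [(0, 3), (5, 6)]), (3, [(0, 1), (1, 4)]), (3, [(1, 2), (2,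
   3)]), (3, [(0, 3), (5, 6)]), (5, [(1, 4), (4, 2)]), (5, [(1, 4), (4, 3)]), (3, [(1, 2), (2, 4)]), (3, [(0, 4),
   (4, 3)]), (1, []), (1, [(1, 4), (4, 2)]), (1, [(3, 4), (5, 6)]), (1, [(1, 2), (2, 4)]), (1, [(0, 2), (2, 4)]),
   (1, [(2, 3), (3, 4)])]

/-- `PSL_2(5)` on `{0,..,5}` -/
def gB5 : List (List (ℕ × ℕ)) :=
[[(0, 1), (1, 2), (2, 3), (3, 4)], [(0, 5), (1, 4)]]

def eB5 : List (List ℕ) :=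
[[], [0], [1], [0, 0], [1, 0], [0, 1], [0, 0, 0], [1, 0, 0], [0, 1, 0], [0, 0, 1], [1, 0, 1], [0, 0, 0, 0], [1, 0,
   0, 0], [0, 1, 0, 0], [0, 0, 1, 0], [1, 0, 1, 0], [0, 0, 0, 1], [1, 0, 0, 1], [0, 1, 0, 1], [0, 1, 0, 0, 0], [0,
   0, 1, 0, 0], [1, 0, 1, 0, 0], [0, 0, 0, 1, 0], [1, 0, 0, 1, 0], [1, 0, 0, 0, 1], [0, 1, 0, 0, 1], [0, 0, 1, 0,
   1], [0, 0, 1, 0, 0, 0], [1, 0, 1, 0, 0, 0], [0, 0, 0, 1, 0, 0], [1, 0, 0, 1, 0, 0], [1, 0, 0, 0, 1, 0], [0, 1, 0,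
   0, 0, 1], [0, 0, 1, 0, 0, 1], [1, 0, 1, 0, 0, 1], [0, 0, 0, 1, 0, 1], [1, 0, 0, 1, 0, 1], [0, 0, 0, 1, 0, 0, 0],
   [1, 0, 0, 1, 0, 0, 0], [1, 0, 0, 0, 1, 0, 0], [0, 1, 0, 0, 0, 1, 0], [0, 0, 1, 0, 0, 0, 1], [1, 0, 1, 0, 0, 0,
   1], [0, 0, 0, 1, 0, 0, 1], [1, 0, 0, 1, 0, 0, 1], [1, 0, 0, 0, 1, 0, 1], [1, 0, 0, 0, 1, 0, 0, 0], [0, 1, 0, 0,
   0, 1, 0, 0], [0, 0, 1, 0, 0, 0, 1, 0], [1, 0, 1, 0, 0, 0, 1, 0], [1, 0, 0, 1, 0, 0, 0, 1], [1, 0, 0, 0, 1, 0, 0,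
   1], [0, 1, 0, 0, 0, 1, 0, 0, 0], [0, 0, 1, 0, 0, 0, 1, 0, 0], [1, 0, 1, 0, 0, 0, 1, 0, 0], [1, 0, 0, 1, 0, 0, 0,
   1, 0], [0, 1, 0, 0, 0, 1, 0, 0, 1], [0, 0, 1, 0, 0, 0, 1, 0, 0, 0], [1, 0, 1, 0, 0, 0, 1, 0, 0, 0], [1, 0, 0, 1,
   0, 0, 0, 1, 0, 0]]

def dB5 : List (ℕ × List (ℕ × ℕ)) :=
[(0, []), (5, []), (1, [(1, 5), (5, 3), (3, 4), (4, 2)]), (5, [(1, 2), (2, 4), (4, 3), (5, 6)]), (4, [(0, 3), (3,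
   6)]), (4, [(0, 2), (2, 4), (1, 3), (3, 6)]), (5, [(1, 3), (3, 4), (4, 2), (5, 6)]), (5, [(1, 2), (4, 5)]), (5,
   [(0, 5), (2, 3)]), (5, [(1, 5), (3, 4)]), (5, [(0, 5), (1, 4)]), (5, [(1, 4), (2, 3)]), (5, [(0, 2), (1, 5)]),
   (5, [(1, 3), (2, 5)]), (5, [(2, 4), (3, 5)]), (4, [(0, 1), (1, 3), (3, 6), (6, 4)]), (5, [(0, 3), (4, 5)]), (5,
   [(0, 2), (2, 4), (4, 5), (5, 6)]), (4, [(0, 2), (2, 3), (3, 6), (1, 4)]), (4, [(1, 4), (2, 3), (3, 6), (6, 5)]),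
   (4, [(1, 4), (4, 2), (3, 6), (6, 5)]), (1, [(1, 3), (3, 5), (5, 2), (2, 4)]), (4, [(1, 2), (3, 6)]), (1, [(1, 4),
   (3, 5)]), (5, [(0, 1), (1, 2), (2, 5), (5, 6)]), (1, [(2, 3), (3, 5)]), (1, [(1, 2), (3, 5)]), (1, [(0, 3), (3,
   5)]), (4, [(3, 6), (6, 4)]), (1, [(0, 2), (2, 3), (3, 5), (1, 4)]), (5, [(2, 5), (5, 6), (6, 4), (4, 3)]), (4,
   [(0, 1), (1, 5), (2, 3), (3, 6)]), (4, [(0, 2), (2, 4), (1, 5), (3, 6)]), (5, [(1, 2), (2, 3), (3, 5), (5, 6)]),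
   (5, [(0, 4), (2, 5)]), (4, [(1, 3), (3, 6), (6, 2), (2, 4)]), (5, [(0, 1), (3, 5)]), (4, [(2, 4), (3, 6)]), (4,
   [(1, 5), (3, 6)]), (4, [(1, 5), (5, 4), (2, 3), (3, 6)]), (4, [(0, 1), (1, 5), (2, 4), (3, 6)]), (4, [(1, 2), (2,
   5), (5, 4), (3, 6)]), (4, [(0, 1), (1, 3), (3, 6), (2, 5)]), (4, [(1, 3), (3, 6), (6, 4), (2, 5)]), (4, [(0, 1),
   (1, 4), (2, 5), (3, 6)]), (4, [(0, 2), (2, 5), (1, 4), (3, 6)]), (5, [(1, 4), (4, 2), (2, 5), (5, 6)]), (5, [(1,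
   5), (5, 6), (6, 2), (2, 4)]), (5, [(1, 4), (4, 5), (5, 6), (6, 3)]), (5, [(1, 3), (3, 5), (5, 6), (6, 4)]), (1,
   [(1, 2), (2, 4)]), (1, [(1, 3), (3, 2)]), (1, [(0, 1), (1, 2), (2, 4), (3, 5)]), (1, [(1, 5), (5, 4)]), (1, [(0,
   5), (2, 4)]), (1, [(3, 4), (5, 6)]), (1, [(1, 4), (4, 2)]), (5, [(2, 3), (3, 4), (4, 5), (5, 6)]), (5, [(1, 5),
   (5, 6), (6, 3), (3, 2)]), (1, [(0, 1), (1, 4)])]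

/-- `3² : 4` on `{0,..,5}` -/
def gE4 : List (List (ℕ × ℕ)) :=
[[(0, 1), (1, 2)], [(3, 4), (4, 5)], [(0, 3), (3, 1), (1, 4), (2, 5)]]

def eE4 : List (List ℕ) :=
[[], [0], [1], [2], [0, 0], [1, 0], [2, 0], [1, 1], [2, 1], [0, 2], [2, 2], [1, 0, 0], [2, 0, 0], [1, 1, 0], [2, 1,
   0], [0, 2, 0], [2, 2, 0], [2, 2, 1], [2, 0, 2], [0, 2, 2], [2, 2, 2], [1, 1, 0, 0], [2, 1, 0, 0], [0, 2, 0, 0],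
   [2, 2, 1, 0], [2, 0, 2, 0], [2, 2, 2, 0], [0, 2, 2, 1], [2, 2, 2, 1], [0, 2, 0, 2], [2, 2, 0, 2], [2, 0, 2, 2],
   [2, 2, 2, 1, 0], [2, 2, 0, 2, 0], [2, 0, 2, 2, 1], [2, 0, 2, 0, 2]]

def dE4 : List (ℕ × List (ℕ × ℕ)) :=
[(0, []), (3, []), (3, [(0, 3), (1, 4), (2, 5), (5, 6)]), (2, [(0, 3), (2, 4)]), (3, [(1, 2), (5, 6)]), (4, [(0, 3),
   (3, 6), (1, 4), (2, 5)]), (2, [(0, 1), (1, 5)]), (3, [(0, 3), (1, 5), (5, 2), (2, 4)]), (2, [(0, 1), (1, 4), (4,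
   3), (3, 5)]), (2, [(1, 3), (3, 5)]), (1, [(2, 3), (3, 4)]), (4, [(1, 2), (3, 6)]), (2, [(1, 5), (3, 4)]), (4,
   [(3, 6), (6, 4)]), (2, [(1, 4), (4, 5)]), (2, [(1, 4), (4, 3), (3, 5), (5, 2)]), (1, [(0, 2), (2, 4)]), (1, [(2,
   4), (3, 5)]), (1, [(2, 3), (3, 5)]), (1, [(1, 2), (2, 4)]), (2, [(1, 4), (4, 2)]), (4, [(0, 3), (3, 6), (1, 5),
   (2, 4)]), (2, [(1, 5), (5, 2)]), (2, [(0, 4), (2, 3)]), (1, [(0, 1), (1, 2), (2, 4), (3, 5)]), (1, [(0, 2), (2,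
   5)]), (2, [(0, 1), (1, 5), (5, 3), (3, 4)]), (1, [(1, 2), (2, 4), (3, 5), (5, 6)]), (2, [(1, 4), (3, 5)]), (1,
   [(1, 2), (2, 5)]), (2, [(0, 5), (2, 3)]), (2, [(1, 5), (5, 4)]), (2, [(0, 3), (2, 5)]), (2, [(1, 3), (3, 4)]),
   (2, [(0, 1), (1, 4)]), (2, [(1, 5), (5, 3), (3, 4), (4, 2)])]

/-- `A_6` on `{0,..,5}` -/
def gA6 : List (List (ℕ × ℕ)) :=
[[(0, 1), (1, 2)], [(1, 2), (2, 3), (3, 4), (4, 5)], [(0, 1), (2, 3)], [(0, 1), (1, 2), (3, 4), (4, 5)]]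

def eA6 : List (List ℕ) :=
[[], [0], [1], [2], [3], [0, 0], [1, 0], [2, 0], [3, 0], [0, 1], [1, 1], [2, 1], [3, 1], [0, 2], [1, 2], [3, 2], [1,
   3], [2, 3], [3, 3], [1, 0, 0], [2, 0, 0], [3, 0, 0], [1, 1, 0], [2, 1, 0], [3, 1, 0], [0, 2, 0], [1, 2, 0], [3,
   2, 0], [1, 3, 0], [2, 3, 0], [3, 3, 0], [0, 0, 1], [1, 0, 1], [3, 0, 1], [0, 1, 1], [1, 1, 1], [2, 1, 1], [3, 1,
   1], [1, 2, 1], [3, 2, 1], [1, 3, 1], [2, 3, 1], [3, 3, 1], [0, 0, 2], [1, 0, 2], [2, 0, 2], [3, 0, 2], [0, 1, 2],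
   [1, 1, 2], [2, 1, 2], [3, 1, 2], [1, 3, 2], [2, 3, 2], [3, 3, 2], [0, 1, 3], [1, 1, 3], [2, 1, 3], [3, 1, 3], [1,
   2, 3], [3, 2, 3], [2, 3, 3], [1, 1, 0, 0], [3, 1, 0, 0], [0, 2, 0, 0], [1, 2, 0, 0], [3, 2, 0, 0], [1, 3, 0, 0],
   [3, 3, 0, 0], [0, 1, 1, 0], [1, 1, 1, 0], [2, 1, 1, 0], [3, 1, 1, 0], [1, 2, 1, 0], [3, 2, 1, 0], [1, 3, 1, 0],
   [2, 3, 1, 0], [3, 3, 1, 0], [0, 0, 2, 0], [1, 0, 2, 0], [3, 0, 2, 0], [0, 1, 2, 0], [1, 1, 2, 0], [2, 1, 2, 0],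
   [3, 1, 2, 0], [1, 3, 2, 0], [2, 3, 2, 0], [3, 3, 2, 0], [1, 1, 3, 0], [2, 1, 3, 0], [3, 1, 3, 0], [1, 2, 3, 0],
   [3, 2, 3, 0], [2, 3, 3, 0], [1, 0, 0, 1], [3, 0, 0, 1], [1, 1, 0, 1], [2, 1, 0, 1], [3, 1, 0, 1], [1, 3, 0, 1],
   [2, 3, 0, 1], [3, 3, 0, 1], [0, 0, 1, 1], [1, 0, 1, 1], [3, 0, 1, 1], [0, 1, 1, 1], [1, 1, 1, 1], [2, 1, 1, 1],
   [3, 1, 1, 1], [1, 2, 1, 1], [3, 2, 1, 1], [1, 3, 1, 1], [2, 3, 1, 1], [3, 3, 1, 1], [0, 1, 2, 1], [1, 1, 2, 1],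
   [2, 1, 2, 1], [3, 1, 2, 1], [1, 3, 2, 1], [3, 3, 2, 1], [0, 1, 3, 1], [1, 1, 3, 1], [2, 1, 3, 1], [3, 1, 3, 1],
   [3, 2, 3, 1], [2, 3, 3, 1], [1, 0, 0, 2], [3, 0, 0, 2], [1, 1, 0, 2], [2, 1, 0, 2], [3, 1, 0, 2], [1, 2, 0, 2],
   [3, 2, 0, 2], [1, 3, 0, 2], [2, 3, 0, 2], [3, 3, 0, 2], [0, 0, 1, 2], [1, 0, 1, 2], [3, 0, 1, 2], [0, 1, 1, 2],
   [1, 1, 1, 2], [2, 1, 1, 2], [3, 1, 1, 2], [1, 2, 1, 2], [3, 2, 1, 2], [1, 3, 1, 2], [2, 3, 1, 2], [3, 3, 1, 2],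
   [1, 1, 3, 2], [1, 2, 3, 2], [3, 2, 3, 2], [2, 3, 3, 2], [0, 0, 1, 3], [1, 0, 1, 3], [3, 0, 1, 3], [0, 1, 1, 3],
   [1, 1, 1, 3], [2, 1, 1, 3], [3, 1, 1, 3], [1, 2, 1, 3], [3, 2, 1, 3], [1, 3, 1, 3], [2, 3, 1, 3], [3, 3, 1, 3],
   [1, 1, 2, 3], [2, 1, 2, 3], [3, 1, 2, 3], [1, 3, 2, 3], [3, 3, 2, 3], [1, 2, 3, 3], [3, 2, 3, 3], [1, 1, 1, 0,
   0], [2, 1, 1, 0, 0], [3, 1, 1, 0, 0], [1, 3, 1, 0, 0], [3, 3, 1, 0, 0], [1, 0, 2, 0, 0], [3, 0, 2, 0, 0], [0, 1,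
   2, 0, 0], [1, 1, 2, 0, 0], [2, 1, 2, 0, 0], [3, 1, 2, 0, 0], [1, 3, 2, 0, 0], [2, 3, 2, 0, 0], [3, 3, 2, 0, 0],
   [1, 1, 3, 0, 0], [3, 1, 3, 0, 0], [1, 0, 1, 1, 0], [3, 0, 1, 1, 0], [1, 1, 1, 1, 0], [2, 1, 1, 1, 0], [3, 1, 1,
   1, 0], [1, 2, 1, 1, 0], [3, 2, 1, 1, 0], [1, 3, 1, 1, 0], [3, 3, 1, 1, 0], [0, 1, 2, 1, 0], [1, 1, 2, 1, 0], [2,
   1, 2, 1, 0], [3, 1, 2, 1, 0], [1, 3, 2, 1, 0], [3, 3, 2, 1, 0], [0, 1, 3, 1, 0], [2, 1, 3, 1, 0], [3, 1, 3, 1,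
   0], [3, 2, 3, 1, 0], [2, 3, 3, 1, 0], [1, 0, 0, 2, 0], [3, 0, 0, 2, 0], [1, 1, 0, 2, 0], [2, 1, 0, 2, 0], [3, 1,
   0, 2, 0], [1, 3, 0, 2, 0], [2, 3, 0, 2, 0], [0, 0, 1, 2, 0], [1, 0, 1, 2, 0], [0, 1, 1, 2, 0], [1, 2, 1, 2, 0],
   [3, 2, 1, 2, 0], [1, 3, 1, 2, 0], [2, 3, 1, 2, 0], [3, 3, 1, 2, 0], [1, 1, 3, 2, 0], [1, 2, 3, 2, 0], [3, 2, 3,
   2, 0], [2, 3, 3, 2, 0], [0, 1, 1, 3, 0], [1, 1, 1, 3, 0], [2, 1, 1, 3, 0], [3, 1, 1, 3, 0], [1, 2, 1, 3, 0], [3,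
   2, 1, 3, 0], [1, 3, 1, 3, 0], [2, 3, 1, 3, 0], [3, 3, 1, 3, 0], [1, 1, 2, 3, 0], [2, 1, 2, 3, 0], [3, 1, 2, 3,
   0], [1, 3, 2, 3, 0], [3, 3, 2, 3, 0], [1, 2, 3, 3, 0], [3, 2, 3, 3, 0], [1, 1, 0, 0, 1], [3, 1, 0, 0, 1], [1, 3,
   0, 0, 1], [3, 3, 0, 0, 1], [0, 1, 1, 0, 1], [2, 1, 1, 0, 1], [1, 2, 1, 0, 1], [1, 3, 1, 0, 1], [3, 3, 1, 0, 1],
   [2, 1, 3, 0, 1], [3, 2, 3, 0, 1], [2, 3, 3, 0, 1], [1, 0, 0, 1, 1], [3, 0, 0, 1, 1], [1, 1, 0, 1, 1], [2, 1, 0,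
   1, 1], [1, 3, 0, 1, 1], [2, 3, 0, 1, 1], [0, 0, 1, 1, 1], [0, 1, 1, 1, 1], [1, 2, 1, 1, 1], [3, 3, 1, 1, 1], [3,
   1, 2, 1, 1], [1, 3, 2, 1, 1], [3, 3, 2, 1, 1], [1, 1, 3, 1, 1], [2, 1, 3, 1, 1], [3, 1, 3, 1, 1], [2, 3, 3, 1,
   1], [3, 0, 1, 2, 1], [0, 1, 1, 2, 1], [3, 1, 1, 2, 1], [1, 2, 1, 2, 1], [3, 2, 1, 2, 1], [3, 3, 1, 2, 1], [0, 0,
   1, 3, 1], [1, 0, 1, 3, 1], [3, 0, 1, 3, 1], [0, 1, 1, 3, 1], [2, 1, 1, 3, 1], [3, 2, 1, 3, 1], [2, 3, 1, 3, 1],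
   [3, 3, 1, 3, 1], [1, 3, 2, 3, 1], [3, 3, 2, 3, 1], [3, 2, 3, 3, 1], [1, 1, 1, 0, 2], [1, 3, 1, 0, 2], [2, 3, 1,
   0, 2], [3, 3, 1, 0, 2], [1, 1, 2, 0, 2], [2, 1, 2, 0, 2], [3, 1, 2, 0, 2], [1, 3, 2, 0, 2], [3, 3, 2, 0, 2], [3,
   1, 3, 0, 2], [1, 0, 0, 1, 2], [3, 0, 0, 1, 2], [2, 3, 0, 1, 2], [3, 3, 0, 1, 2], [0, 0, 1, 1, 2], [3, 1, 1, 1,
   2], [1, 3, 1, 1, 2], [3, 3, 1, 1, 2], [1, 1, 2, 1, 2], [3, 1, 2, 1, 2], [1, 3, 2, 1, 2], [0, 1, 3, 1, 2], [1, 1,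
   3, 1, 2], [2, 1, 3, 1, 2], [1, 1, 1, 3, 2], [3, 1, 1, 3, 2], [3, 1, 2, 3, 2], [3, 3, 2, 3, 2], [3, 2, 3, 3, 2],
   [3, 0, 0, 1, 3], [0, 0, 1, 1, 3], [3, 0, 1, 1, 3], [1, 2, 1, 1, 3], [0, 1, 2, 1, 3], [1, 1, 2, 1, 3], [2, 1, 2,
   1, 3], [3, 1, 2, 1, 3], [3, 3, 2, 1, 3], [1, 1, 3, 1, 3], [1, 1, 1, 2, 3], [3, 1, 1, 2, 3], [1, 2, 1, 2, 3], [1,
   3, 1, 2, 3], [1, 1, 2, 3, 3], [3, 3, 2, 3, 3], [1, 2, 1, 1, 0, 0], [1, 1, 0, 2, 0, 0], [3, 1, 0, 2, 0, 0], [1, 3,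
   0, 2, 0, 0], [1, 2, 1, 2, 0, 0], [3, 2, 3, 2, 0, 0], [2, 1, 0, 1, 1, 0], [1, 3, 0, 1, 1, 0], [2, 3, 0, 1, 1, 0],
   [1, 2, 1, 1, 1, 0], [3, 3, 2, 1, 1, 0], [3, 1, 3, 1, 1, 0], [2, 3, 3, 1, 1, 0], [3, 0, 1, 2, 1, 0], [1, 2, 1, 2,
   1, 0], [3, 0, 1, 3, 1, 0], [1, 3, 2, 3, 1, 0], [3, 3, 2, 3, 1, 0], [2, 3, 1, 0, 2, 0], [1, 1, 3, 1, 2, 0], [2, 1,
   3, 1, 2, 0], [3, 0, 1, 1, 3, 0], [0, 1, 2, 1, 3, 0], [1, 3, 1, 2, 3, 0], [3, 1, 2, 1, 2, 1], [3, 0, 0, 1, 3, 1],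
   [1, 2, 1, 1, 3, 1], [2, 1, 3, 1, 1, 2]]

def dA6 : List (ℕ × List (ℕ × ℕ)) :=
[(0, []), (3, []), (5, [(0, 5), (5, 6)]), (1, []), (4, [(0, 3), (3, 6), (1, 4), (2, 5)]), (3, [(1, 2), (5, 6)]), (2,
   [(0, 1), (1, 3), (3, 5), (2, 4)]), (3, [(0, 1), (1, 3)]), (4, [(1, 2), (3, 6)]), (2, [(0, 4), (1, 5)]), (5, [(0,
   1), (1, 3), (3, 2), (2, 5)]), (5, [(2, 3), (3, 4), (4, 5), (5, 6)]), (2, [(0, 2), (2, 3), (3, 5), (1, 4)]), (3,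
   [(1, 2), (2, 3)]), (5, [(1, 2), (2, 4), (3, 5), (5, 6)]), (5, [(1, 2), (2, 4), (4, 3), (3, 5)]), (2, [(0, 1), (1,
   3), (3, 4), (2, 5)]), (5, [(0, 5), (1, 2)]), (4, [(0, 3), (3, 6), (1, 5), (2, 4)]), (5, [(0, 5), (5, 2)]), (3,
   [(1, 3), (5, 6)]), (3, [(0, 3), (1, 4), (2, 5), (5, 6)]), (2, [(0, 3), (1, 5)]), (2, [(1, 3), (3, 5), (5, 2), (2,
   4)]), (5, [(0, 2), (2, 4), (4, 5), (5, 6)]), (3, [(2, 3), (5, 6)]), (3, [(0, 5), (2, 4)]), (5, [(2, 4), (4, 3),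
   (3, 5), (5, 6)]), (5, [(1, 3), (3, 4), (2, 5), (5, 6)]), (5, [(1, 3), (3, 5), (5, 6), (2, 4)]), (3, [(0, 3), (1,
   5), (5, 2), (2, 4)]), (5, [(0, 5), (5, 1)]), (2, [(0, 1), (3, 4)]), (5, [(1, 2), (2, 4), (4, 5), (5, 6)]), (2,
   [(2, 3), (3, 5)]), (5, [(0, 1), (1, 4), (4, 3), (3, 5)]), (2, [(3, 4), (4, 5)]), (5, [(2, 4), (4, 5), (5, 6), (6,
   3)]), (2, [(0, 5), (5, 1)]), (2, [(0, 5), (2, 4)]), (5, [(1, 2), (2, 5), (5, 6), (6, 4)]), (1, [(0, 2), (2, 3),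
   (3, 5), (1, 4)]), (3, [(1, 2), (2, 5)]), (3, [(0, 3), (5, 6)]), (2, [(0, 5), (3, 4)]), (3, [(1, 3), (3, 2)]), (5,
   [(0, 2), (2, 5), (5, 6), (1, 4)]), (3, [(0, 4), (1, 5)]), (2, [(1, 3), (2, 4)]), (5, [(1, 3), (3, 4), (4, 5), (5,
   6)]), (1, [(0, 2), (2, 3), (3, 4), (1, 5)]), (2, [(0, 4), (3, 5)]), (4, [(0, 2), (2, 5), (1, 4), (3, 6)]), (5,
   [(0, 3), (3, 5)]), (5, [(0, 2), (2, 3), (3, 5), (5, 6)]), (5, [(1, 3), (3, 4), (4, 2), (5, 6)]), (2, [(1, 3), (3,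
   4), (4, 2), (2, 5)]), (3, [(0, 1), (1, 4)]), (1, [(0, 4), (2, 5)]), (5, [(2, 4), (4, 5)]), (5, [(1, 3), (3, 4),
   (4, 2), (2, 5)]), (4, [(1, 4), (4, 2), (3, 6), (6, 5)]), (5, [(0, 3), (1, 5)]), (1, [(1, 3), (3, 2)]), (5, [(0,
   5), (5, 3)]), (2, [(1, 4), (2, 5)]), (5, [(0, 4), (4, 5)]), (4, [(3, 6), (6, 4)]), (4, [(0, 1), (1, 4), (3, 6),
   (6, 5)]), (4, [(1, 4), (3, 6)]), (2, [(1, 2), (3, 4)]), (5, [(1, 4), (4, 5), (5, 6), (6, 3)]), (5, [(1, 4), (4,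
   5), (5, 6), (6, 2)]), (5, [(1, 4), (2, 3), (3, 5), (5, 6)]), (3, [(0, 3), (2, 5)]), (2, [(2, 4), (4, 3)]), (3,
   [(2, 5), (5, 3)]), (1, [(1, 2), (5, 6)]), (4, [(0, 1), (1, 4), (2, 5), (3, 6)]), (2, [(0, 1), (1, 4), (4, 2), (2,
   5)]), (5, [(2, 4), (3, 5)]), (5, [(0, 1), (1, 5)]), (2, [(2, 4), (3, 5)]), (2, [(2, 5), (5, 3)]), (4, [(1, 2),
   (2, 3), (3, 6), (6, 4)]), (5, [(0, 3), (3, 5), (5, 6), (2, 4)]), (2, [(0, 1), (1, 5), (5, 2), (2, 4)]), (5, [(1,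
   4), (5, 6)]), (5, [(1, 2), (2, 3), (3, 5), (5, 6)]), (3, [(1, 4), (4, 3)]), (2, [(0, 4), (4, 3)]), (2, [(1, 4),
   (4, 2), (2, 3), (3, 5)]), (2, [(0, 5), (1, 4)]), (4, [(1, 3), (3, 6), (6, 4), (2, 5)]), (5, [(0, 5), (3, 4)]),
   (4, [(1, 3), (3, 6), (6, 4), (4, 2)]), (5, [(1, 3), (3, 2), (2, 5), (5, 6)]), (3, [(0, 5), (1, 4)]), (5, [(1, 3),
   (3, 2), (4, 5), (5, 6)]), (2, [(1, 3), (2, 5)]), (3, [(0, 5), (5, 3)]), (4, [(1, 2), (2, 4), (3, 6), (6, 5)]),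
   (4, [(1, 2), (2, 5), (5, 4), (3, 6)]), (5, [(1, 2), (2, 5), (5, 6), (6, 3)]), (4, [(2, 4), (3, 6)]), (5, [(0, 1),
   (1, 5), (5, 6), (2, 4)]), (2, [(2, 4), (4, 5)]), (2, [(2, 5), (3, 4)]), (2, [(1, 2), (2, 5), (5, 3), (3, 4)]),
   (5, [(0, 1), (3, 5)]), (2, [(1, 2), (3, 5)]), (5, [(0, 5), (2, 4)]), (2, [(0, 4), (4, 1)]), (5, [(0, 1), (1, 4),
   (4, 5), (5, 6)]), (2, [(0, 3), (2, 5)]), (5, [(1, 3), (2, 5)]), (1, [(0, 5), (3, 4)]), (5, [(1, 3), (3, 5), (5,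
   4), (4, 2)]), (3, [(0, 1), (1, 5)]), (3, [(0, 5), (1, 3)]), (2, [(1, 3), (4, 5)]), (1, [(1, 3), (3, 5)]), (1,
   [(0, 4), (1, 5)]), (5, [(3, 5), (5, 6)]), (5, [(1, 3), (3, 5), (5, 6), (6, 4)]), (5, [(0, 5), (2, 3)]), (2, [(0,
   2), (2, 5), (5, 1), (1, 4)]), (2, [(1, 4), (4, 2)]), (2, [(1, 2), (2, 4), (4, 3), (3, 5)]), (2, [(0, 1), (2,
   4)]), (2, [(1, 4), (4, 2), (2, 5), (5, 3)]), (5, [(1, 4), (4, 2), (2, 5), (5, 6)]), (5, [(0, 1), (1, 3), (3, 5),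
   (5, 6)]), (4, [(2, 3), (3, 6)]), (2, [(0, 2), (2, 4), (4, 1), (1, 5)]), (5, [(3, 4), (4, 5)]), (5, [(0, 1), (1,
   2), (2, 5), (5, 6)]), (2, [(3, 5), (5, 4)]), (5, [(0, 2), (1, 5)]), (2, [(1, 4), (4, 3)]), (5, [(1, 2), (2, 5)]),
   (5, [(1, 4), (4, 5)]), (5, [(0, 4), (3, 5)]), (4, [(1, 4), (2, 3), (3, 6), (6, 5)]), (1, [(0, 2), (2, 5)]), (2,
   [(0, 2), (2, 3), (3, 4), (1, 5)]), (5, [(4, 5), (5, 6)]), (5, [(1, 4), (4, 3)]), (4, [(0, 2), (2, 3), (3, 6), (1,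
   5)]), (5, [(1, 4), (4, 5), (5, 6), (2, 3)]), (4, [(0, 2), (2, 4), (1, 5), (3, 6)]), (5, [(2, 3), (3, 5)]), (3,
   [(0, 3), (2, 4)]), (3, [(2, 4), (4, 3)]), (5, [(1, 3), (5, 6)]), (2, [(1, 4), (2, 3)]), (5, [(1, 2), (3, 4)]),
   (2, [(0, 2), (2, 5)]), (1, [(1, 4), (4, 2)]), (3, [(1, 4), (4, 2)]), (1, [(0, 5), (2, 4)]), (5, [(2, 4), (5,
   6)]), (5, [(2, 5), (5, 6)]), (5, [(0, 5), (1, 4)]), (4, [(0, 2), (2, 5), (1, 3), (3, 6)]), (5, [(2, 5), (5, 6),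
   (6, 3), (3, 4)]), (5, [(1, 2), (2, 3), (4, 5), (5, 6)]), (1, [(1, 2), (3, 5)]), (5, [(0, 3), (5, 6)]), (1, [(1,
   4), (4, 3)]), (2, [(0, 1), (2, 5)]), (1, [(1, 4), (2, 5)]), (1, [(1, 5), (3, 4)]), (5, [(0, 3), (4, 5)]), (1,
   [(1, 5), (5, 3)]), (5, [(1, 4), (4, 3), (2, 5), (5, 6)]), (5, [(1, 4), (2, 5)]), (5, [(1, 4), (2, 5), (5, 6), (6,
   3)]), (4, [(1, 5), (3, 6)]), (4, [(1, 4), (2, 5), (5, 3), (3, 6)]), (2, [(1, 5), (5, 3)]), (5, [(1, 5), (5, 2),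
   (2, 4), (4, 3)]), (2, [(1, 4), (4, 3), (3, 2), (2, 5)]), (5, [(1, 5), (5, 6), (6, 2), (2, 4)]), (1, [(0, 3), (3,
   4)]), (1, [(3, 4), (5, 6)]), (5, [(0, 3), (2, 5)]), (1, [(1, 4), (4, 2), (3, 5), (5, 6)]), (5, [(1, 5), (2, 4)]),
   (4, [(0, 1), (1, 5), (5, 4), (3, 6)]), (4, [(0, 1), (1, 3), (3, 6), (6, 4)]), (5, [(1, 3), (3, 5), (5, 6), (6,
   2)]), (3, [(0, 4), (2, 5)]), (1, [(1, 5), (2, 4)]), (5, [(1, 5), (5, 2)]), (4, [(0, 1), (1, 3), (3, 6), (2, 5)]),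
   (2, [(0, 1), (1, 4)]), (2, [(0, 5), (5, 4)]), (5, [(1, 5), (5, 3), (3, 4), (4, 2)]), (5, [(1, 5), (5, 4)]), (3,
   [(1, 5), (5, 3)]), (5, [(2, 5), (5, 4)]), (5, [(2, 5), (5, 6), (6, 4), (4, 3)]), (2, [(2, 3), (4, 5)]), (5, [(1,
   2), (3, 5)]), (1, [(0, 1), (1, 5)]), (4, [(1, 3), (3, 6)]), (5, [(0, 5), (1, 3)]), (2, [(0, 1), (1, 5), (5, 3),
   (3, 4)]), (5, [(1, 3), (3, 4), (4, 5), (5, 2)]), (5, [(0, 1), (1, 5), (5, 6), (3, 4)]), (4, [(0, 1), (1, 5), (2,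
   4), (3, 6)]), (2, [(0, 1), (1, 4), (2, 5), (5, 3)]), (5, [(1, 2), (3, 4), (4, 5), (5, 6)]), (2, [(0, 4), (2,
   5)]), (4, [(2, 5), (3, 6)]), (5, [(1, 2), (2, 4), (4, 5), (5, 3)]), (2, [(1, 2), (2, 4)]), (1, [(1, 2), (2, 5)]),
   (5, [(0, 2), (2, 5)]), (5, [(1, 2), (4, 5)]), (1, [(1, 3), (3, 4)]), (5, [(0, 1), (1, 5), (5, 6), (2, 3)]), (4,
   [(0, 2), (2, 3), (3, 6), (1, 4)]), (2, [(0, 1), (1, 5), (2, 4), (4, 3)]), (1, [(1, 4), (5, 6)]), (4, [(1, 5), (5,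
   4), (4, 2), (3, 6)]), (3, [(1, 4), (2, 3)]), (5, [(1, 5), (2, 3)]), (5, [(1, 3), (3, 2)]), (3, [(0, 4), (4, 3)]),
   (2, [(0, 5), (5, 3)]), (5, [(1, 4), (2, 3)]), (2, [(1, 5), (5, 2), (2, 3), (3, 4)]), (2, [(1, 5), (5, 3), (3, 2),
   (2, 4)]), (2, [(0, 5), (1, 2)]), (5, [(0, 2), (3, 5)]), (1, [(1, 5), (5, 2)]), (3, [(1, 5), (5, 2)]), (5, [(1,
   2), (2, 4)]), (3, [(1, 2), (2, 4)]), (2, [(1, 4), (3, 5)]), (5, [(1, 4), (3, 5)]), (1, [(0, 3), (3, 5)]), (1,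
   [(3, 5), (5, 4)]), (5, [(1, 3), (3, 5)]), (5, [(1, 2), (2, 5), (5, 6), (3, 4)]), (2, [(0, 3), (3, 5)]), (1, [(0,
   2), (2, 4)]), (5, []), (5, [(1, 2), (2, 5), (5, 4), (4, 3)]), (1, [(1, 4), (3, 5)]), (5, [(2, 3), (4, 5)]), (2,
   [(0, 3), (2, 4)]), (1, [(0, 4), (3, 5)]), (5, [(1, 3), (4, 5)]), (2, [(0, 1), (1, 4), (4, 3), (3, 5)]), (4, [(1,
   3), (3, 6), (6, 2), (2, 4)]), (2, [(1, 3), (3, 5)]), (2, [(1, 2), (2, 5)]), (5, [(2, 5), (3, 4)]), (5, [(1, 2),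
   (3, 5), (5, 6), (6, 4)]), (5, [(1, 2), (2, 4), (4, 3), (5, 6)]), (1, [(0, 1), (1, 4)]), (5, [(0, 2), (5, 6)]),
   (3, [(0, 3), (1, 4)]), (3, [(1, 3), (2, 5)]), (2, [(0, 3), (1, 4)]), (3, [(0, 5), (2, 3)]), (5, [(1, 3), (2, 4),
   (4, 5), (5, 6)]), (5, [(2, 5), (5, 3)]), (2, [(1, 3), (3, 4)]), (2, [(0, 5), (2, 3)]), (2, [(0, 1), (1, 5)]), (5,
   [(1, 4), (4, 2), (3, 5), (5, 6)]), (2, [(2, 3), (3, 4)]), (5, [(3, 5), (5, 4)]), (1, [(0, 1), (1, 2), (2, 4), (3,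
   5)]), (2, []), (1, [(1, 3), (3, 5), (5, 2), (2, 4)]), (1, [(1, 2), (2, 4), (3, 5), (5, 6)]), (4, [(0, 3), (3,
   6)]), (1, [(2, 4), (3, 5)]), (5, [(3, 4), (5, 6)]), (5, [(1, 2), (5, 6)]), (5, [(0, 1), (5, 6)]), (5, [(0, 4),
   (1, 5)]), (4, [(1, 5), (5, 4), (2, 3), (3, 6)]), (5, [(1, 5), (5, 6), (6, 4), (2, 3)]), (5, [(1, 4), (4, 3), (3,
   5), (5, 6)]), (1, [(1, 5), (5, 4)]), (5, [(1, 5), (5, 6), (6, 3), (3, 4)]), (3, [(1, 4), (2, 5)]), (5, [(1, 5),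
   (3, 4)]), (5, [(1, 5), (5, 6), (6, 3), (2, 4)]), (2, [(1, 5), (2, 4)]), (5, [(2, 4), (4, 3)]), (4, [(0, 1), (1,
   3), (3, 6), (2, 4)]), (2, [(0, 1), (3, 5)]), (5, [(0, 2), (2, 1), (1, 5), (5, 6)]), (5, [(0, 1), (4, 5)]), (4,
   [(0, 5), (3, 6)]), (3, [(1, 5), (2, 4)]), (2, [(0, 3), (3, 4)]), (5, [(1, 5), (5, 6), (6, 3), (3, 2)]), (2, [(0,
   4), (1, 2)]), (4, [(0, 2), (2, 4), (1, 3), (3, 6)]), (5, [(1, 5), (5, 6), (6, 4), (4, 3)]), (1, [(2, 3), (3,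
   5)]), (1, [(0, 1), (1, 3), (3, 5), (2, 4)]), (5, [(2, 3), (3, 5), (5, 6), (6, 4)]), (5, [(1, 5), (5, 6), (6, 2),
   (3, 4)]), (5, [(1, 5), (5, 6), (6, 2), (2, 3)]), (5, [(1, 5), (5, 6), (2, 4), (4, 3)]), (5, [(0, 5), (5, 4)]),
   (5, [(1, 2), (2, 3)]), (1, [(1, 2), (3, 4)]), (1, [(1, 3), (2, 4)]), (5, [(0, 4), (2, 5)]), (1, [(1, 3), (2,
   5)]), (5, [(1, 4), (4, 2)]), (2, [(1, 5), (5, 3), (3, 4), (4, 2)]), (5, [(0, 4), (5, 6)]), (2, [(1, 5), (2, 3)]),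
   (5, [(1, 5), (5, 6), (2, 3), (3, 4)]), (3, [(0, 3), (1, 5)]), (3, [(0, 4), (1, 3)]), (5, [(2, 3), (5, 6)]), (4,
   [(0, 1), (1, 5), (2, 3), (3, 6)]), (1, [(1, 2), (2, 4)]), (5, [(1, 5), (5, 6), (6, 4), (4, 2)]), (5, [(0, 1), (2,
   5)]), (4, [(1, 5), (5, 2), (2, 4), (3, 6)]), (2, [(1, 5), (5, 4)]), (4, [(0, 1), (1, 4), (2, 3), (3, 6)]), (2,
   [(1, 5), (5, 2), (2, 4), (4, 3)]), (1, [(1, 5), (5, 3), (3, 4), (4, 2)]), (2, [(0, 2), (2, 4)]), (2, [(1, 4), (4,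
   5)]), (5, [(1, 5), (5, 6)]), (2, [(1, 4), (4, 3), (3, 5), (5, 2)]), (3, [(1, 5), (2, 3)]), (5, [(2, 3), (3, 4)]),
   (5, [(1, 3), (2, 5), (5, 6), (6, 4)]), (2, [(0, 4), (4, 5)]), (5, [(1, 5), (5, 3)]), (2, [(1, 5), (3, 4)]), (2,
   [(1, 2), (4, 5)]), (3, [(1, 3), (2, 4)]), (3, [(0, 4), (2, 3)]), (2, [(2, 5), (5, 4)]), (2, [(1, 3), (3, 2)]),
   (5, [(0, 2), (4, 5)]), (4, [(0, 4), (3, 6)]), (5, [(1, 3), (3, 4)]), (1, [(2, 3), (3, 4)]), (2, [(0, 4), (2,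
   3)]), (2, [(1, 2), (2, 3)]), (5, [(1, 3), (2, 4)]), (2, [(1, 5), (5, 2)])]

theorem chkG_A4 : chkG 7 gA4 eA4 = true := by decide +kernel

theorem chkC_A4 : chkC 7 gA4 eA4 [] r7 dA4 = true := by decide +kernel

theorem len_A4 : eA4.length = 12 := by decide +kernel

theorem cnt_A4 : (List.range 6).map (fun k => (dA4.map Prod.fst).count k) = [1, 3, 0, 8, 0, 0] := by decide +kernel

theorem chkG_A5 : chkG 7 gA5 eA5 = true := by decide +kernel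

theorem chkC_A5 : chkC 7 gA5 eA5 [] r7 dA5 = true := by decide +kernel

theorem len_A5 : eA5.length = 60 := by decide +kernel

theorem cnt_A5 : (List.range 6).map (fun k => (dA5.map Prod.fst).count k) = [1, 15, 0, 20, 0, 24] := by decide +kernel

theorem chkG_B5 : chkG 7 gB5 eB5 = true := by decide +kernel

theorem chkC_B5 : chkC 7 gB5 eB5 [] r7 dB5 = true := by decide +kernel

theorem len_B5 : eB5.length = 60 := by decide +kernel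

theorem cnt_B5 : (List.range 6).map (fun k => (dB5.map Prod.fst).count k) = [1, 15, 0, 0, 20, 24] := by decide +kernel

theorem chkG_E4 : chkG 7 gE4 eE4 = true := by decide +kernel

theorem chkC_E4 : chkC 7 gE4 eE4 [] r7 dE4 = true := by decide +kernel

theorem len_E4 : eE4.length = 36 := by decide +kernel

theorem cnt_E4 : (List.range 6).map (fun k => (dE4.map Prod.fst).count k) = [1, 9, 18, 4, 4, 0] := by decide +kernel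

theorem chkG_A6 : chkG 7 gA6 eA6 = true := by decide +kernel

theorem chkC_A6 : chkC 7 gA6 eA6 [] r7 dA6 = true := by decide +kernel

theorem len_A6 : eA6.length = 360 := by decide +kernel

theorem cnt_A6 : (List.range 6).map (fun k => (dA6.map Prod.fst).count k) = [1, 45, 90, 40, 40, 144] := by decide +kernel

end Cfsg.Agent.R2.T1.N7
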