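import Cfsg.Agent.R2.T1.Five.InvF
import Cfsg.Agent.R2.T1.Inf.Aut
import Cfsg.Agent.R2.T1.Odd.El
import Cfsg.Agent.R2.T1.N7.Sc7

/-!
# S5929, `n = 7`: no fixed vector on the adjoint module (helper19)

* `exists_tauV` : the involution of an element of order 5 with 16 fixed weights, with its action on both modules;
* `tau7` : if `A₇` has a fixed vector on the adjoint module then the involution of the 5-cycle `x` belongs to `H` and
  induces the transposition of the two fixed points of `x`;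
* `no_inv7r` : every characteristic `≠ 2, 5`, if `H = A₇`;
* `no_inv7` : characteristic 3, lift.
-/

set_option autoImplicit false
set_option maxRecDepth 100000

namespace Cfsg.Agent.R2.T1.N7.Tau

open Cfsg Cfsg.Lie Module Equiv Equiv.Perm
open Cfsg.Agent.H943.E7V.Block (D1 rho)
open Cfsg.Agent.H952.F4 (ev es MaxAlt)
open Cfsg.Agent.R2.T1 Cfsg.Agent.R2.T1.Five

universe u v

/-- **The involution over finite fields, with its action on both modules.** -/
theorem exists_tauV {F : Type u} [Field F] [Finite F] (h2 : (2 : F) ≠ 0) (h5 : (5 : F) ≠ 0) {x : Gh F} (hx : x ^ 5 = 1)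
    (h16 : ev (V F x) 1 = 16) :
    ∃ τ : Gh F, τ * τ = 1 ∧ ad F τ ≠ 1 ∧ τ * x = x * τ ∧ (∀ X, L F x X = X → L F τ X = X) ∧
      ∀ v, V F x v = v → V F τ v = -v := by
  have := Fintype.ofFinite F
  obtain ⟨p, hp⟩ := CharP.exists F
  have hpp : Fact p.Prime := ⟨CharP.char_is_prime F p⟩
  have hcop : (5 : ℕ).Coprime p := by
    rw [Nat.coprime_primes (by norm_num) hpp.out]
    rintro rfl
    apply h5
    exact_mod_cast CharP.cast_eq_zero F 5
  set K := AlgebraicClosure F with hK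
  set f : F →+* K := algebraMap F K with hf
  have hfr := frame p (by norm_num : (5 : ℕ) ≠ 0) hcop hx
  have h2K : (2 : K) ≠ 0 := by
    have h := (map_ne_zero f).2 h2
    rwa [map_ofNat] at h
  have h5K : ((5 : ℕ) : K) ≠ 0 := by
    have h := (map_ne_zero f).2 h5
    rw [map_ofNat] at h
    exact_mod_cast h
  have : NeZero ((5 : ℕ) : K) := ⟨h5K⟩
  obtain ⟨ζ, hζ⟩ : ∃ ζ : K, IsPrimitiveRoot ζ 5 := HasEnoughRootsOfUnity.exists_primitiveRoot K 5
  have hz : IsPrimitiveRoot (Units.mk0 ζ (hζ.ne_zero (by norm_num))) 5 := by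
    rw [← IsPrimitiveRoot.coe_units_iff]
    exact hζ
  have h16' : ev (V K (emb f x)) 1 = 16 := by rw [ev_V_one, h16]
  obtain ⟨τ, hτ, hu⟩ := exists_tau h2K hz hfr h16'
  let s : K →+* K := (FiniteField.frobeniusAlgEquivOfAlgebraic F K : K →+* K)
  have hs : ∀ t, s t = t ^ Nat.card F := by
    intro t
    rw [Nat.card_eq_fintype_card]
    rfl
  have hsurj : Function.Surjective s := (FiniteField.frobeniusAlgEquivOfAlgebraic F K).surjective
  have h7 : emb s τ = τ := by
    apply hu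
    have h8 := hτ.map s hsurj
    rwa [emb_frob f s hs] at h8
  obtain ⟨τ0, rfl⟩ := exists_of_emb_eq f s hs h7
  have hinj := emb_injective f
  refine ⟨τ0, ?_, ?_, ?_, ?_, ?_⟩
  · apply hinj
    rw [map_mul, hτ.1, map_one]
  · intro h8
    exact hτ.ad_ne h2K ((ad_emb_eq_one_iff f τ0).2 h8)
  · have h8 := hu _ (by
      have h9 := hτ.conj (emb f x)
      have e : emb f x * emb f x * (emb f x)⁻¹ = emb f x := by group
      rwa [e] at h9)
    apply hinj
    rw [map_mul, map_mul]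
    nth_rewrite 1 [← h8]
    group
  · intro X hX
    apply fun_injective f
    rw [← L_emb]
    apply hτ.2.1
    rw [L_emb, hX]
  · intro v hv
    apply fun_injective f
    rw [← V_emb]
    rw [hτ.2.2.1 (fun i => f (v i)) (by rw [V_emb, hv])]
    funext i
    rw [Pi.neg_apply, Pi.neg_apply, map_neg]

/-! ### permutations -/

theorem comm5 {x σ : Perm (Fin 7)} {a b y0 : Fin 7} (hab : a ≠ b) (ha : x a = a) (hb : x b = b)
    (hcov : ∀ i, i = a ∨ i = b ∨ ∃ k < 5, (x ^ k) y0 = i) (hx5 : x ^ 5 = 1) (hy : ∀ k, 0 < k → k < 5 → (x ^ k) y0 ≠ y0)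
    (hc : σ * x = x * σ) (hs : σ * σ = 1) : σ = 1 ∨ σ = swap a b := by
  have hp : ∀ (k : ℕ) (i : Fin 7), σ ((x ^ k) i) = (x ^ k) (σ i) := by
    intro k i
    have h1 : Commute σ x := hc
    exact congrArg (fun g : Perm (Fin 7) => g i) (h1.pow_right k).eq
  have hss : ∀ i, σ (σ i) = i := fun i => congrArg (fun g : Perm (Fin 7) => g i) hs
  have hx1 : x y0 ≠ y0 := by
    have := hy 1 (by norm_num) (by norm_num)
    rwa [pow_one] at this
  have hσ : ∀ c, x c = c → ∀ k, σ c = (x ^ k) y0 → False := by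
    intro c hcc k hk
    apply hx1
    have h1 := hp 1 c
    rw [pow_one, hcc, hk, ← Perm.mul_apply, ← pow_succ', pow_succ, Perm.mul_apply] at h1
    exact ((x ^ k).injective h1).symm
  have h0 : σ y0 = y0 := by
    rcases hcov (σ y0) with h | h | ⟨k, hk, h⟩
    · exfalso
      apply hσ a ha 0
      rw [pow_zero, Perm.one_apply, ← h, hss]
    · exfalso
      apply hσ b hb 0
      rw [pow_zero, Perm.one_apply, ← h, hss]
    · have h1 := hp k y0
      rw [h, hss, ← h, ← Perm.mul_apply, ← pow_add] at h1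
      have h2 : ∀ m j : ℕ, x ^ (5 * m + j) = x ^ j := by
        intro m j
        rw [pow_add, pow_mul, hx5, one_pow, one_mul]
      interval_cases k
      · rw [← h, pow_zero, Perm.one_apply]
      · exact absurd h1.symm (hy 2 (by norm_num) (by norm_num))
      · exact absurd h1.symm (hy 4 (by norm_num) (by norm_num))
      · have h3 := h2 1 1
        norm_num at h3 h1
        rw [h3] at h1
        exact absurd h1.symm hx1
      · have h3 := h2 1 3
        norm_num at h3 h1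
        rw [h3] at h1
        exact absurd h1.symm (hy 3 (by norm_num) (by norm_num))
  have h1 : ∀ c, x c = c → σ c = a ∨ σ c = b := by
    intro c hcc
    rcases hcov (σ c) with h | h | ⟨k, -, h⟩
    · exact Or.inl h
    · exact Or.inr h
    · exact (hσ c hcc k h.symm).elim
  rcases h1 a ha with h2 | h2
  · have h3 : σ b = b := (h1 b hb).resolve_left fun h => hab (σ.injective (h2.trans h.symm))
    left
    ext i
    rcases hcov i with rfl | rfl | ⟨k, -, rfl⟩
    · rw [h2]; rfl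
    · rw [h3]; rfl
    · rw [hp, h0]; rfl
  · have h3 : σ b = a := by rw [← h2, hss]
    right
    ext i
    rcases hcov i with rfl | rfl | ⟨k, -, rfl⟩
    · rw [h2, swap_apply_left]
    · rw [h3, swap_apply_right]
    · have h4 : ∀ c, x c = c → (x ^ k) y0 ≠ c := by
        intro c hcc h5
        apply hσ c hcc k
        rw [h5, ← h5, hp, h0]
      rw [hp, h0, swap_apply_of_ne_of_ne (h4 a ha) (h4 b hb)]

/-- the centralizer of `A₇` -/
theorem alt_comm {π : Perm (Fin 7)} (h : ∀ a ∈ alternatingGroup (Fin 7), π * a * π⁻¹ = a) : π = 1 := by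
  by_contra h1
  obtain ⟨i, hi⟩ : ∃ i, π i ≠ i := by
    by_contra h2
    push Not at h2
    exact h1 (Perm.ext h2)
  have key : ∀ i j : Fin 7, ∃ k l : Fin 7, k ≠ l ∧ k ≠ i ∧ l ≠ i ∧ k ≠ j ∧ l ≠ j := by decide
  obtain ⟨k, l, h2, h3, h4, h5, h6⟩ := key i (π i)
  have h7 := h _ (cyc3_mem h5.symm h2)
  rw [mul_inv_eq_iff_eq_mul] at h7
  have h8 := congrArg (fun g : Perm (Fin 7) => g i) h7
  change π (cyc3 (π i) k l i) = cyc3 (π i) k l (π i) at h8
  rw [cyc3_fix hi.symm h3.symm h4.symm] at h8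
  exact cyc3_ne h5.symm h6.symm h2 (Or.inl rfl) h8.symm

/-! ### the involution belongs to `H` -/

section
variable {F : Type u} [Field F] [Finite F] {H : Subgroup ↥(chevE7.group F)}
  {φ : ↥(alternatingGroup (Fin 7)) →* ↥(chevE7.group F)}

theorem ev_L_ne (h5 : (5 : F) ≠ 0) {x : Gh F} (hx : x ^ 5 = 1) (h16 : ev (V F x) 1 = 16) : ev (L F x) 1 ≠ 133 := by
  obtain ⟨P, hP, h1, h2, -⟩ := patF5 h5 hx
  have key : ∀ P ∈ T5, P.1.getD 0 0 = 16 → P.2.getD 0 0 ≠ 133 := by decide
  rw [h2]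
  exact key P hP (by rw [← h1, h16])

theorem conj_mem {c σ : Perm (Fin 7)} (hc : c ∈ alternatingGroup (Fin 7)) : σ * c * σ⁻¹ ∈ alternatingGroup (Fin 7) := by
  rw [mem_alternatingGroup] at hc ⊢
  rw [Perm.sign_mul, Perm.sign_mul, hc, mul_one, Perm.sign_inv, Int.units_mul_self]

/-- **The involution of a 5-cycle**, if `A₇` has fixed vectors on the adjoint module. -/
theorem tau7 (h2 : (2 : F) ≠ 0) (h5 : (5 : F) ≠ 0) (hM : MaxAlt H 7 φ)
    (hne : Representation.invariants (MonoidHom.comp (LK F) φ) ≠ ⊥) {x : ↥(alternatingGroup (Fin 7))} {a b y0 : Fin 7}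
    (hab : a ≠ b) (ha : (x : Perm (Fin 7)) a = a) (hb : (x : Perm (Fin 7)) b = b)
    (hcov : ∀ i, i = a ∨ i = b ∨ ∃ k < 5, ((x : Perm (Fin 7)) ^ k) y0 = i) (hx5 : (x : Perm (Fin 7)) ^ 5 = 1)
    (hy : ∀ k, 0 < k → k < 5 → ((x : Perm (Fin 7)) ^ k) y0 ≠ y0) {X : Gh F} (hX : X ^ 5 = 1) (hXx : ad F X = φ x)
    (h16 : ev (V F X) 1 = 16) :
    ∃ τ : Gh F, ad F τ ∈ H ∧ (∀ v, V F X v = v → V F τ v = -v) ∧
      ∀ c d : ↥(alternatingGroup (Fin 7)), (d : Perm (Fin 7)) = swap a b * c * (swap a b)⁻¹ →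
        ad F τ * φ c * (ad F τ)⁻¹ = φ d := by
  obtain ⟨τ, e1, e2, e3, e4, e5⟩ := exists_tauV h2 h5 hX h16
  have hfix : ∀ w ∈ Representation.invariants (MonoidHom.comp (LK F) φ), L F X w = w := by
    intro w hw
    rw [Representation.mem_invariants] at hw
    rw [L_eq, hXx]
    exact hw x
  have htop : Representation.invariants (MonoidHom.comp (LK F) φ) ≠ ⊤ := by
    intro h
    apply ev_L_ne h5 hX h16
    have h4 : Module.End.eigenspace (L F X) 1 = ⊤ := by
      rw [eq_top_iff]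
      intro w _
      rw [Module.End.mem_eigenspace_iff, one_smul]
      exact hfix w (by rw [h]; trivial)
    rw [ev, h4, finrank_top, finrank_L]
  have hτ : ad F τ ∈ H := blueL h2 hM.coatom (stab_inv hM) hne htop fun w hw => by
    rw [e4 w (hfix w hw)]
    exact hw
  obtain ⟨σ, hσ⟩ := exists_perm le_rfl hM hτ
  have hσx : σ * x = x * σ := by
    have h6 := hσ x ⟨σ * x * σ⁻¹, conj_mem x.2⟩ rfl
    have h7 : ad F τ * φ x * (ad F τ)⁻¹ = φ x := by
      rw [← hXx, ← map_mul, e3, map_mul, mul_inv_cancel_right]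
    rw [h7] at h6
    have h8 : (x : Perm (Fin 7)) = σ * x * σ⁻¹ := congrArg Subtype.val (hM.inj h6)
    rw [eq_mul_inv_iff_mul_eq] at h8
    exact h8.symm
  have hσσ : σ * σ = 1 := by
    apply alt_comm
    intro c hc
    have h6 := hσ ⟨c, hc⟩ ⟨σ * c * σ⁻¹, conj_mem hc⟩ rfl
    have h7 := hσ ⟨σ * c * σ⁻¹, conj_mem hc⟩ ⟨σ * (σ * c * σ⁻¹) * σ⁻¹, conj_mem (conj_mem hc)⟩ rfl
    rw [← h6] at h7
    have h8 : ad F τ * ad F τ = 1 := by rw [← map_mul, e1, map_one]
    have h9 : ad F τ * (ad F τ * φ ⟨c, hc⟩ * (ad F τ)⁻¹) * (ad F τ)⁻¹ =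
        (ad F τ * ad F τ) * φ ⟨c, hc⟩ * (ad F τ * ad F τ)⁻¹ := by group
    rw [h9, h8, one_mul, inv_one, mul_one] at h7
    have h10 : c = σ * (σ * c * σ⁻¹) * σ⁻¹ := congrArg Subtype.val (hM.inj h7)
    conv_rhs => rw [h10]
    group
  have hσ1 : σ ≠ 1 := by
    rintro rfl
    apply e2
    apply centralizer_eq hM (by norm_num)
    intro c
    have h6 := hσ c c (by rw [one_mul, inv_one, mul_one])
    rw [mul_inv_eq_iff_eq_mul] at h6
    exact h6.symm
  have h6 := (comm5 hab ha hb hcov hx5 hy hσx hσσ).resolve_left hσ1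
  subst h6
  exact ⟨τ, hτ, e5, hσ⟩

end

end Cfsg.Agent.R2.T1.N7.Tau
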