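import Cfsg.Agent.R2.T1.N7.Tau

/-!
# S5929, `n = 7`: no fixed vector on the adjoint module, final forms (helper19)

* `no_inv7r` : every characteristic `≠ 2, 5`, if every element of `H` is in the image of `A₇`;
* `no_inv7` : characteristic 3, lift (`H = A₇` or `S₇`).
-/

set_option autoImplicit false
set_option maxRecDepth 100000

namespace Cfsg.Agent.R2.T1.N7.Tau

open Cfsg Cfsg.Lie Module Equiv Equiv.Perm
open Cfsg.Agent.H943.E7V.Block (D1 rho)
open Cfsg.Agent.H952.F4 (ev es MaxAlt)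
open Cfsg.Agent.R2.T1 Cfsg.Agent.R2.T1.Five

universe u v

/-! ### linear algebra -/

section lin
variable {K : Type u} [Field K] {M : Type v} [AddCommGroup M] [Module K M] [FiniteDimensional K M]

theorem finrank_ker_mul (S T : Module.End K M) :
    finrank K ↥(LinearMap.ker (S * T)) ≤ finrank K ↥(LinearMap.ker S) + finrank K ↥(LinearMap.ker T) := by
  have h := LinearMap.finrank_range_add_finrank_ker (T.domRestrict (LinearMap.ker (S * T)))
  have h1 : finrank K ↥(LinearMap.range (T.domRestrict (LinearMap.ker (S * T)))) ≤ finrank K ↥(LinearMap.ker S) := by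
    apply Submodule.finrank_mono
    rintro _ ⟨⟨v, hv⟩, rfl⟩
    exact hv
  have h2 : finrank K ↥(LinearMap.ker (T.domRestrict (LinearMap.ker (S * T)))) ≤ finrank K ↥(LinearMap.ker T) := by
    let f : ↥(LinearMap.ker (T.domRestrict (LinearMap.ker (S * T)))) →ₗ[K] ↥(LinearMap.ker T) :=
      LinearMap.codRestrict _ ((Submodule.subtype _).comp (Submodule.subtype _)) fun v => by
        have h3 := v.2
        rw [LinearMap.mem_ker] at h3 ⊢
        exact h3
    apply LinearMap.finrank_le_finrank_of_injective (f := f)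
    intro v w hvw
    apply Subtype.ext
    apply Subtype.ext
    have h3 := congrArg Subtype.val hvw
    exact h3
  omega

theorem ev_cube (h3 : (3 : K) = 0) {T : Module.End K M} (hT : T ^ 3 = 1) : finrank K M ≤ 3 * ev T 1 := by
  have h1 : (T - 1) * ((T - 1) * (T - 1)) = 0 := by
    have h4 : (T - 1) * ((T - 1) * (T - 1)) = T ^ 3 - 1 - (3 : K) • (T * T) + (3 : K) • T := by
      have : (3 : K) • (T * T) = T * T + T * T + T * T := by
        have : (3 : K) = 1 + 1 + 1 := by norm_num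
        rw [this, add_smul, add_smul, one_smul]
      rw [this]
      have : (3 : K) • T = T + T + T := by
        have : (3 : K) = 1 + 1 + 1 := by norm_num
        rw [this, add_smul, add_smul, one_smul]
      rw [this]
      noncomm_ring
    rw [h4, hT, h3, zero_smul, zero_smul, sub_self, sub_zero, add_zero]
  have h4 := finrank_ker_mul (T - 1) ((T - 1) * (T - 1))
  have h5 := finrank_ker_mul (T - 1) (T - 1)
  rw [h1, LinearMap.ker_zero, finrank_top] at h4
  have h6 : ev T 1 = finrank K ↥(LinearMap.ker (T - 1)) := by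
    rw [ev, Module.End.eigenspace_def, one_smul]
  omega

end lin

/-! ### the permutations -/

abbrev A7 := ↥(alternatingGroup (Fin 7))

/-- the generators of a transitive subgroup `PSL₂(5)` on `1, .., 6` -/
def bx : Perm (Fin 7) := c[3, 4] * c[5, 6]
def by' : Perm (Fin 7) := c[1, 2, 3] * c[4, 5, 6]

/-- the words of the elements of order 5 fixing `0` and `i` -/
def wd : Fin 7 → List (Fin 4) := ![[], [0, 3, 0, 2], [0, 2, 0, 3], [0, 2, 0, 2, 0], [2, 0, 2], [0, 2], [0, 3]]

/-- the elements of order 5 fixing `0` and `i` -/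
def fv (i : Fin 7) : Perm (Fin 7) := Cfsg.Agent.H952.F4.Gen.ev bx by' (wd i)

/-- conjugating `fv i` to its square -/
def cj : Fin 7 → Perm (Fin 7) := ![1, c[0, 1] * c[3, 6, 4, 5], c[0, 2] * c[3, 5, 4, 6], c[0, 3] * c[2, 5, 6, 4],
  c[0, 4] * c[2, 6, 5, 3], c[0, 5] * c[2, 4, 3, 6], c[0, 6] * c[2, 3, 4, 5]]

/-- a point moved by `fv i` -/
def y0 : Fin 7 → Fin 7 := ![0, 2, 1, 1, 1, 1, 1]

theorem bx_mem : bx ∈ alternatingGroup (Fin 7) := by rw [mem_alternatingGroup]; decide +kernel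
theorem by_mem : by' ∈ alternatingGroup (Fin 7) := by rw [mem_alternatingGroup]; decide +kernel
theorem fv_mem (i : Fin 7) : fv i ∈ alternatingGroup (Fin 7) := by
  rw [mem_alternatingGroup]; revert i; decide +kernel
theorem cj_mem (i : Fin 7) : cj i ∈ alternatingGroup (Fin 7) := by
  rw [mem_alternatingGroup]; revert i; decide +kernel

theorem fv_zero (i : Fin 7) : fv i 0 = 0 := by revert i; decide +kernel
theorem fv_self (i : Fin 7) : fv i i = i := by revert i; decide +kernel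
theorem fv_cov : ∀ i : Fin 7, i ≠ 0 → ∀ j, j = 0 ∨ j = i ∨ ∃ k < 5, ((fv i) ^ k) (y0 i) = j := by decide +kernel
theorem fv_five (i : Fin 7) : fv i ^ 5 = 1 := by revert i; decide +kernel
theorem fv_mv : ∀ i : Fin 7, i ≠ 0 → ∀ k < 5, 0 < k → ((fv i) ^ k) (y0 i) ≠ y0 i := by decide +kernel
theorem fv_cj (i : Fin 7) : cj i * fv i * (cj i)⁻¹ = fv i ^ 2 := by revert i; decide +kernel
theorem fv_ne : ∀ i : Fin 7, i ≠ 0 → fv i ≠ 1 := by decide +kernel
theorem bx_two : bx * bx = 1 := by decide +kernel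
theorem bx_ne : bx ≠ 1 := by decide +kernel
theorem by_three : by' ^ 3 = 1 := by decide +kernel
theorem bxy : bx * by' = fv 5 := by decide +kernel

theorem three_pow : ∀ k : Fin 7, k ≠ 0 → (swap 0 1 * swap 0 k) ^ 3 = (1 : Perm (Fin 7)) := by decide +kernel

/-- `fv i` as an element of `A₇` -/
def fa (i : Fin 7) : A7 := ⟨fv i, fv_mem i⟩

section
variable {F : Type u} [Field F] [Finite F] {H : Subgroup ↥(chevE7.group F)} {φ : A7 →* ↥(chevE7.group F)}

/-- the lift of order 5 of `fv i` has 16 fixed weights -/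
theorem ev16 (h5 : (5 : F) ≠ 0) (hM : MaxAlt H 7 φ) {i : Fin 7} (hi : i ≠ 0) {X : Gh F} (hX : X ^ 5 = 1)
    (hXx : ad F X = φ (fa i)) : ev (V F X) 1 = 16 := by
  obtain ⟨g, hg⟩ := ad_surjective (φ ⟨cj i, cj_mem i⟩)
  refine Cfsg.Agent.R2.T1.Odd.five_rat h5 (g := g) hX ?_ ?_
  · rintro rfl
    rw [map_one] at hXx
    apply fv_ne i hi
    have h1 : φ (fa i) = φ 1 := by rw [← hXx, map_one]
    exact congrArg Subtype.val (hM.inj h1)
  · apply odd_unique (k := 5) (by decide)
    · rw [map_mul, map_mul, map_inv, hg, hXx, ← map_inv, ← map_mul, ← map_mul, map_pow, hXx, ← map_pow]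
      congr 1
      exact Subtype.ext (fv_cj i)
    · rw [← MulAut.conj_apply, ← map_pow, hX, map_one]
    · rw [← pow_mul, mul_comm, pow_mul, hX, one_pow]

/-- the involution attached to `fv i` -/
theorem tau_i (h2 : (2 : F) ≠ 0) (h5 : (5 : F) ≠ 0) (hM : MaxAlt H 7 φ)
    (hne : Representation.invariants (MonoidHom.comp (LK F) φ) ≠ ⊥) {i : Fin 7} (hi : i ≠ 0) {X : Gh F} (hX : X ^ 5 = 1)
    (hXx : ad F X = φ (fa i)) : ∃ τ : Gh F, ad F τ ∈ H ∧ (∀ v, V F X v = v → V F τ v = -v) ∧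
      ∀ c d : A7, (d : Perm (Fin 7)) = swap 0 i * c * (swap 0 i)⁻¹ → ad F τ * φ c * (ad F τ)⁻¹ = φ d :=
  tau7 h2 h5 hM hne (x := fa i) (a := 0) (b := i) (y0 := y0 i) hi.symm (fv_zero i) (fv_self i) (fv_cov i hi)
    (fv_five i) (fun k h1 h3 => fv_mv i hi k h3 h1) hX hXx (ev16 h5 hM hi hX hXx)

/-- **an element of `H` induces a transposition** if `A₇` has a fixed vector on the adjoint module (lift or cover) -/
theorem exists_swap (h2 : (2 : F) ≠ 0) (h5 : (5 : F) ≠ 0) (hM : MaxAlt H 7 φ)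
    (hne : Representation.invariants (MonoidHom.comp (LK F) φ) ≠ ⊥) :
    ∃ h ∈ H, ∀ c d : A7, (d : Perm (Fin 7)) = swap 0 1 * (c : Perm (Fin 7)) * (swap 0 1)⁻¹ →
      h * φ c * h⁻¹ = φ d := by
  have h1 : φ (fa 1) ^ 5 = 1 := by
    rw [← map_pow]
    have : fa 1 ^ 5 = 1 := Subtype.ext (fv_five 1)
    rw [this, map_one]
  obtain ⟨X, hX1, hX⟩ := odd_lift (k := 5) (by decide) h1
  obtain ⟨τ, e1, -, e3⟩ := tau_i h2 h5 hM hne (i := 1) (by decide) hX hX1
  exact ⟨_, e1, e3⟩

/-- **no fixed vector on the adjoint module if `H = A₇`** (lift or cover) -/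
theorem no_inv7r (h2 : (2 : F) ≠ 0) (h5 : (5 : F) ≠ 0) (hM : MaxAlt H 7 φ) (hA : ∀ h ∈ H, h ∈ φ.range) :
    Representation.invariants (MonoidHom.comp (LK F) φ) = ⊥ := by
  by_contra hne
  obtain ⟨h, hh, hc⟩ := exists_swap h2 h5 hM hne
  obtain ⟨a, rfl⟩ := hA h hh
  have h1 : (swap 0 1)⁻¹ * (a : Perm (Fin 7)) = 1 := by
    apply alt_comm
    intro c hc'
    have h3 := hc ⟨c, hc'⟩ ⟨swap 0 1 * c * (swap 0 1)⁻¹, conj_mem hc'⟩ rfl
    rw [← map_mul, ← map_inv, ← map_mul] at h3
    have h4 : (a : Perm (Fin 7)) * c * (a : Perm (Fin 7))⁻¹ = swap 0 1 * c * (swap 0 1)⁻¹ :=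
      congrArg Subtype.val (hM.inj h3)
    have h5 : (swap 0 1)⁻¹ * (a : Perm (Fin 7)) * c * ((swap 0 1)⁻¹ * (a : Perm (Fin 7)))⁻¹ =
        (swap 0 1)⁻¹ * ((a : Perm (Fin 7)) * c * (a : Perm (Fin 7))⁻¹) * swap 0 1 := by group
    rw [h5, h4]
    group
  have h3 : (a : Perm (Fin 7)) = swap 0 1 := by rw [← mul_right_inj (swap 0 1)⁻¹, h1, inv_mul_cancel]
  have h4 := a.2
  rw [h3, mem_alternatingGroup, sign_swap (by decide)] at h4
  exact absurd h4 (by decide)

end

/-! ### the lift in characteristic 3 -/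

section
variable {F : Type u} [Field F] [Finite F] {H : Subgroup ↥(chevE7.group F)} {φ : A7 →* ↥(chevE7.group F)}
  {ψ : A7 →* Gh F}

/-- a fixed vector of the subgroup `PSL₂(5)` -/
theorem exists_fixed (h3 : (3 : F) = 0) (hM : MaxAlt H 7 φ) (hL : Lift φ ψ) : ∃ v : D1 → F, v ≠ 0 ∧
    V F (ψ ⟨bx, bx_mem⟩) v = v ∧ V F (ψ ⟨by', by_mem⟩) v = v := by
  have h2 : (2 : F) ≠ 0 := by
    intro h
    apply one_ne_zero (α := F)
    linear_combination h3 - h
  have h5 : (5 : F) ≠ 0 := by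
    intro h
    apply h2
    linear_combination h - h3
  set x : A7 := ⟨bx, bx_mem⟩ with hx
  set y : A7 := ⟨by', by_mem⟩ with hy
  set B : Subgroup A7 := Subgroup.closure {x, y} with hB
  have hxB : x ∈ B := Subgroup.subset_closure (by simp)
  have hyB : y ∈ B := Subgroup.subset_closure (by simp)
  set ρ : Representation F ↥B (D1 → F) := MonoidHom.comp (MonoidHom.comp (V F) ψ) B.subtype with hρ
  have hcl : Subgroup.closure {(⟨x, hxB⟩ : ↥B), ⟨y, hyB⟩} = ⊤ := by
    have h1 := Subgroup.closure_closure_coe_preimage (k := ({x, y} : Set A7))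
    rw [← h1]
    congr 1
    ext ⟨z, hz⟩
    simp only [Set.mem_insert_iff, Set.mem_singleton_iff, Set.mem_preimage, Subtype.mk.injEq]
  have h := Cfsg.Agent.H952.F4.Scott.scott_form ρ (x := ⟨x, hxB⟩) (y := ⟨y, hyB⟩) hcl (sf F)
    (fun v hv => sf_nondeg' hv) (fun g v w => sf_V _ v w)
  rw [finrank_V] at h
  have e1 : ev (ρ ⟨x, hxB⟩) 1 = ev (V F (ψ x)) 1 := rfl
  have e2 : ev (ρ ⟨y, hyB⟩) 1 = ev (V F (ψ y)) 1 := rfl
  have e3 : ev (ρ (⟨x, hxB⟩ * ⟨y, hyB⟩)) 1 = ev (V F (ψ (x * y))) 1 := rfl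
  have e4 : x * y = fa 5 := Subtype.ext bxy
  have n1 : 24 ≤ ev (V F (ψ x)) 1 := by
    have h6 := (two h2 (x := ψ x) (by rw [← map_mul, show x * x = 1 from Subtype.ext bx_two, map_one]) (by
      rw [hL x]
      intro h7
      apply bx_ne
      have h8 : φ x = φ 1 := by rw [h7, map_one]
      exact congrArg Subtype.val (hM.inj h8))).1
    omega
  have n2 : 19 ≤ ev (V F (ψ y)) 1 := by
    have h6 := ev_cube h3 (T := V F (ψ y)) (by rw [← map_pow, ← map_pow, show y ^ 3 = 1 from Subtype.ext by_three,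
      map_one, map_one])
    rw [finrank_V] at h6
    omega
  have n3 : ev (V F (ψ (x * y))) 1 = 16 := by
    rw [e4]
    exact ev16 h5 hM (i := 5) (by decide) (by
      rw [← map_pow, show fa 5 ^ 5 = 1 from Subtype.ext (fv_five 5), map_one]) (hL _)
  rw [e1, e2, e3, n3] at h
  have h6 : ρ.invariants ≠ ⊥ := by
    intro h7
    rw [h7, finrank_bot] at h
    omega
  obtain ⟨v, hv, hv0⟩ := Submodule.exists_mem_ne_zero_of_ne_bot h6
  rw [Representation.mem_invariants] at hv
  exact ⟨v, hv0, hv ⟨x, hxB⟩, hv ⟨y, hyB⟩⟩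

omit [Finite F] in
theorem inv_eq (hL : Lift φ ψ) : Representation.invariants (MonoidHom.comp (L F) ψ) =
    Representation.invariants (MonoidHom.comp (LK F) φ) := by
  ext w
  rw [Representation.mem_invariants, Representation.mem_invariants]
  refine forall_congr' fun a => ?_
  show L F (ψ a) w = w ↔ LK F (φ a) w = w
  rw [L_eq, hL a]

/-- **characteristic 3, lift: no fixed vector on the adjoint module** -/
theorem no_inv7 (h3 : (3 : F) = 0) (hM : MaxAlt H 7 φ) (hL : Lift φ ψ) :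
    Representation.invariants (MonoidHom.comp (L F) ψ) = ⊥ := by
  rw [inv_eq hL]
  by_contra hne
  have h2 : (2 : F) ≠ 0 := by
    intro h
    apply one_ne_zero (α := F)
    linear_combination h3 - h
  have h5 : (5 : F) ≠ 0 := by
    intro h
    apply h2
    linear_combination h - h3
  obtain ⟨v, hv0, hvx, hvy⟩ := exists_fixed h3 hM hL
  -- the stabilizer of `v`
  let S : Subgroup A7 :=
    { carrier := {g | V F (ψ g) v = v}
      one_mem' := by
        show V F (ψ 1) v = v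
        rw [map_one, V_one]
      mul_mem' := by
        intro g h hg hh
        show V F (ψ (g * h)) v = v
        have hg' : V F (ψ g) v = v := hg
        have hh' : V F (ψ h) v = v := hh
        rw [map_mul, V_mul, hh', hg']
      inv_mem' := by
        intro g hg
        show V F (ψ g⁻¹) v = v
        have hg' : V F (ψ g) v = v := hg
        conv_lhs => rw [← hg']
        rw [map_inv, V_inv] }
  have memS : ∀ g, g ∈ S ↔ V F (ψ g) v = v := fun g => Iff.rfl
  have hfa : ∀ i, fa i ∈ S := by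
    intro i
    have h1 : fv i ∈ S.map (alternatingGroup (Fin 7)).subtype :=
      Cfsg.Agent.H952.F4.Gen.ev_mem (H := S.map (alternatingGroup (Fin 7)).subtype)
        ⟨⟨bx, bx_mem⟩, hvx, rfl⟩ ⟨⟨by', by_mem⟩, hvy, rfl⟩ (wd i)
    obtain ⟨g, hg, h4⟩ := h1
    have h6 : fa i = g := Subtype.ext h4.symm
    rw [h6]
    exact hg
  have htau : ∀ i : Fin 7, i ≠ 0 → ∃ τ : Gh F, ad F τ ∈ H ∧ V F τ v = -v ∧
      ∀ c d : A7, (d : Perm (Fin 7)) = swap 0 i * c * (swap 0 i)⁻¹ → ad F τ * φ c * (ad F τ)⁻¹ = φ d := by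
    intro i hi
    obtain ⟨τ, e1, e2, e3⟩ := tau_i h2 h5 hM hne hi (X := ψ (fa i)) (by
      rw [← map_pow, show fa i ^ 5 = 1 from Subtype.ext (fv_five i), map_one]) (hL _)
    exact ⟨τ, e1, e2 v (hfa i), e3⟩
  obtain ⟨τ1, -, a2, a3⟩ := htau 1 (by decide)
  have hc : ∀ k : Fin 7, k ≠ 0 → swap 0 1 * swap 0 k ∈ S.map (alternatingGroup (Fin 7)).subtype := by
    intro k hk
    obtain ⟨τ, -, b2, b3⟩ := htau k hk
    have hmem : swap 0 1 * swap 0 k ∈ alternatingGroup (Fin 7) := by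
      rw [mem_alternatingGroup, Perm.sign_mul, sign_swap (by decide), sign_swap hk.symm]
      decide
    set c : A7 := ⟨swap 0 1 * swap 0 k, hmem⟩ with hcdef
    have h1 : ad F (τ1 * τ) = φ c := by
      have h4 : (φ c)⁻¹ * ad F (τ1 * τ) = 1 := by
        apply centralizer_eq hM (by norm_num)
        intro a
        have h6 := b3 a ⟨swap 0 k * (a : Perm (Fin 7)) * (swap 0 k)⁻¹, conj_mem a.2⟩ rfl
        have h7 := a3 ⟨swap 0 k * (a : Perm (Fin 7)) * (swap 0 k)⁻¹, conj_mem a.2⟩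
          ⟨swap 0 1 * (swap 0 k * (a : Perm (Fin 7)) * (swap 0 k)⁻¹) * (swap 0 1)⁻¹, conj_mem (conj_mem a.2)⟩ rfl
        rw [← h6] at h7
        have h8 : (⟨swap 0 1 * (swap 0 k * (a : Perm (Fin 7)) * (swap 0 k)⁻¹) * (swap 0 1)⁻¹, conj_mem (conj_mem a.2)⟩ : A7) =
            c * a * c⁻¹ := by
          apply Subtype.ext
          show swap 0 1 * (swap 0 k * (a : Perm (Fin 7)) * (swap 0 k)⁻¹) * (swap 0 1)⁻¹ =
            (swap 0 1 * swap 0 k) * (a : Perm (Fin 7)) * (swap 0 1 * swap 0 k)⁻¹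
          group
        rw [h8, map_mul, map_mul, map_inv] at h7
        rw [map_mul]
        symm
        calc (φ c)⁻¹ * (ad F τ1 * ad F τ) * φ a
            = (φ c)⁻¹ * (ad F τ1 * (ad F τ * φ a * (ad F τ)⁻¹) * (ad F τ1)⁻¹) * (ad F τ1 * ad F τ) := by group
          _ = (φ c)⁻¹ * (φ c * φ a * (φ c)⁻¹) * (ad F τ1 * ad F τ) := by rw [h7]
          _ = φ a * ((φ c)⁻¹ * (ad F τ1 * ad F τ)) := by group
      rw [inv_mul_eq_one] at h4
      exact h4.symm
    have h4 : V F (τ1 * τ) v = v := by rw [V_mul, b2, map_neg, a2, _root_.neg_neg]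
    refine ⟨c, ?_, rfl⟩
    rw [SetLike.mem_coe, memS]
    have h6 : ad F (ψ c) = ad F (τ1 * τ) := by rw [hL c, h1]
    rcases ad_eq_iff.1 h6 with h7 | h7
    · rw [h7, h4]
    · exfalso
      have h8 : V F (ψ c) v = -v := by
        rw [h7, LinearMap.neg_apply, h4]
      have h9 : c ^ 3 = 1 := by
        apply Subtype.ext
        exact three_pow k hk
      have h10 : V F (ψ (c ^ 3)) v = -v := by
        have h12 : ψ (c ^ 3) = ψ c * (ψ c * ψ c) := by rw [← map_mul, ← map_mul, pow_succ, pow_two, mul_assoc]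
        rw [h12, V_mul, V_mul, h8, map_neg, h8, _root_.neg_neg, h8]
      rw [h9, map_one, V_one] at h10
      apply hv0
      have h11 : (2 : F) • v = 0 := by
        rw [two_smul]
        nth_rewrite 1 [h10]
        exact neg_add_cancel v
      exact (smul_eq_zero.1 h11).resolve_left h2
  have hall : ∀ g : A7, g ∈ S := by
    intro g
    have h1 := Cfsg.Agent.H952.F4.Gen.mem_of_star (n := 5) (S.map (alternatingGroup (Fin 7)).subtype)
      (by rintro _ ⟨g, -, rfl⟩; exact g.2) hc g.2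
    obtain ⟨g', hg', h4⟩ := h1
    have h6 : g = g' := Subtype.ext h4.symm
    rw [h6]
    exact hg'
  have h6 := no_fixed hM (by norm_num) (by norm_num) hL
  have h7 : v ∈ Representation.invariants (MonoidHom.comp (V F) ψ) := by
    rw [Representation.mem_invariants]
    exact fun a => hall a
  rw [h6, Submodule.mem_bot] at h7
  exact hv0 h7

end

end Cfsg.Agent.R2.T1.N7.Tau
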