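import Cfsg.Agent.R2.T1.N7.Three0
import Cfsg.Agent.R2.T1.N7.PatB
import Cfsg.Agent.R2.T1.N7.Tau2

/-!
# S5929, `n = 7`, `p = 3`, lift (helper11; pattern B: helper7, adjoint module: helper19)
-/

set_option autoImplicit false

namespace Cfsg.Agent.R2.T1.N7

open Cfsg Cfsg.Lie Module
open Cfsg.Agent.H943.E7V.Block (D1)
open Cfsg.Agent.H952.F4 (ev MaxAlt)

universe u

/-- **`n = 7`, `p = 3`, lift** -/
theorem sev3 {F : Type u} [Field F] [Finite F] {H : Subgroup ↥(chevE7.group F)}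
    {φ : ↥(alternatingGroup (Fin 7)) →* ↥(chevE7.group F)} {ψ : ↥(alternatingGroup (Fin 7)) →* Gh F}
    (hM : MaxAlt H 7 φ) (hL : Lift φ ψ) (h3 : (3 : F) = 0) : False :=
  sev3_of hM hL h3 (Tau.no_inv7 h3 hM hL) fun _ _ _ ht hy hx h => patB hM hL h3 ht hy hx h.1 h.2.1 h.2.2

example {F : Type u} [Field F] [Finite F] : ∀ (H : Subgroup ↥(chevE7.group F))
    (φ : ↥(alternatingGroup (Fin 7)) →* ↥(chevE7.group F)) (ψ : ↥(alternatingGroup (Fin 7)) →* Gh F),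
    MaxAlt H 7 φ → Lift φ ψ → (3 : F) = 0 → False := fun _ _ _ hM hL h3 => sev3 hM hL h3

end Cfsg.Agent.R2.T1.N7
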